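import Cfsg.Agent.Lib.Lie.MultExc.Cover
import Cfsg.Agent.Lib.Lie.Mult.Sylow

/-!
A simple group as a checked permutation group, and the bound on its multiplier from certificates.
-/

set_option autoImplicit false

namespace CfsgLib.Lie.MultExc

open CfsgLib.Spor.PermCert CfsgLib.Spor.SchurCert

/-- A checked permutation group: generators, further elements, base and transversals. -/
structure Tab where
  w : ℕ
  ngen : ℕ
  R : Rows
  ops : List (ℕ × ℕ)
  base : List ℕ
  trans : List (List ℕ)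

variable {n : ℕ} [NeZero n]

/-- The number of listed elements. -/
abbrev Tab.len (T : Tab) : ℕ := T.ngen + T.ops.length

/-- The checks on the table. -/
def Tab.ok (T : Tab) (n ord : ℕ) : Bool :=
  opsOK n T.w T.R T.ops T.ngen && chainOK n T.w T.R T.len [] T.base T.trans &&
    Nat.beq (T.trans.map List.length).prod ord

/-- A permutation group carrying the table. -/
structure Model (n : ℕ) [NeZero n] (T : Tab) (H : Subgroup (Equiv.Perm (Fin n))) : Prop where
  chain : chainOK n T.w T.R T.len [] T.base T.trans = true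
  card : Nat.card ↥H = (T.trans.map List.length).prod
  base_lt : ∀ b ∈ T.base, b < n
  elt : ∀ k < T.len, ∃ g ∈ H, Matches T.w g T.R k
  gens : ∃ σ : ℕ → Equiv.Perm (Fin n), (∀ s < T.ngen, Matches T.w (σ s) T.R s) ∧
    Subgroup.closure (σ '' {s | s < T.ngen}) = H

theorem chain_base_lt {w : ℕ} {R : Rows} {len : ℕ} : ∀ {bs : List ℕ} {Ts : List (List ℕ)} {fixed : List ℕ},
    chainOK n w R len fixed bs Ts = true → ∀ b ∈ bs, b < n
  | [], _, _, _, b, hb => absurd hb List.not_mem_nil
  | _ :: _, [], _, h, _, _ => by simp [chainOK] at h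
  | c :: bs, U :: Ts, fixed, h, b, hb => by
    simp only [chainOK, Bool.and_eq_true, decide_eq_true_eq] at h
    rcases List.mem_cons.1 hb with rfl | hb
    · exact h.1.1.1
    · exact chain_base_lt h.2 b hb

/-- A simple group permuting listed points, some elements matching the generators, is the tabulated group. -/
theorem exists_model (T : Tab) {G : Type*} [Group G] [Finite G] [IsSimpleGroup G] {V : Type*} [MulAction G V]
    (e : Fin n → V) (he : Function.Injective e) (hinv : ∀ (g : G) i, ∃ j, g • e i = e j)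
    (gs : ℕ → G) (hgs : ∀ s < T.ngen, ∀ i : Fin n, ∃ j : Fin n, j.1 = look T.w T.R s i.1 ∧ gs s • e i = e j)
    (hne : ∃ s < T.ngen, ∃ i : Fin n, look T.w T.R s i.1 ≠ i.1)
    (hok : T.ok n (Nat.card G) = true) :
    ∃ H : Subgroup (Equiv.Perm (Fin n)), Model n T H ∧ Nonempty (↥H ≃* G) := by
  choose act hact using hinv
  have act_one : ∀ i, act 1 i = i := fun i => he (by rw [← hact, one_smul])
  have act_mul : ∀ g h i, act (g * h) i = act g (act h i) := fun g h i => he (by
    rw [← hact, ← hact, ← hact, mul_smul])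
  let rho : G →* Equiv.Perm (Fin n) :=
    { toFun := fun g =>
        { toFun := act g
          invFun := act g⁻¹
          left_inv := fun i => by rw [← act_mul, inv_mul_cancel, act_one]
          right_inv := fun i => by rw [← act_mul, mul_inv_cancel, act_one] }
      map_one' := Equiv.ext act_one
      map_mul' := fun g h => Equiv.ext (act_mul g h) }
  have hm : ∀ s < T.ngen, Matches T.w (rho (gs s)) T.R s := fun s hs i => by
    obtain ⟨j, hj, e'⟩ := hgs s hs i
    rw [← hj]
    exact congrArg Fin.val (he ((hact (gs s) i).symm.trans e'))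
  have hinj : Function.Injective rho := by
    rw [← MonoidHom.ker_eq_bot_iff]
    refine rho.normal_ker.eq_bot_or_eq_top.resolve_right fun h => ?_
    obtain ⟨s, hs, i, hi⟩ := hne
    refine hi ?_
    rw [← hm s hs i, show rho (gs s) = 1 from MonoidHom.mem_ker.1 (h ▸ Subgroup.mem_top _)]
    rfl
  simp only [Tab.ok, Bool.and_eq_true] at hok
  obtain ⟨⟨hops, hchain⟩, hcard⟩ := hok
  have hcardH : Nat.card ↥rho.range = (T.trans.map List.length).prod := by
    rw [← Nat.card_congr (MonoidHom.ofInjective hinj).toEquiv]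
    exact (Nat.eq_of_beq_eq_true hcard).symm
  refine ⟨rho.range, ⟨hchain, hcardH, chain_base_lt hchain,
    exists_of_ops hops _ fun k hk => ⟨_, ⟨gs k, rfl⟩, hm k hk⟩, fun s => rho (gs s), hm, ?_⟩,
    ⟨(MonoidHom.ofInjective hinj).symm⟩⟩
  refine Subgroup.eq_of_le_of_card_ge ((Subgroup.closure_le _).2 ?_) ?_
  · rintro _ ⟨s, -, rfl⟩
    exact ⟨_, rfl⟩
  · have hmem : ∀ k < T.len, ∃ g ∈ Subgroup.closure ((fun s => rho (gs s)) '' {s | s < T.ngen}),
        Matches T.w g T.R k :=
      exists_of_ops hops _ fun k hk => ⟨_, Subgroup.subset_closure ⟨k, hk, rfl⟩, hm k hk⟩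
    have h1 := card_chain hmem hchain
    rw [← hcardH] at h1
    exact le_trans (Nat.le_mul_of_pos_right _ Nat.card_pos) h1

/-- The checks of one certificate on the table. -/
def certChecks (n : ℕ) (T : Tab) (C : Cert) (sw gw : List (List ℕ)) (O : List (ℕ × List (ℕ × List ℕ))) : Bool :=
  identPerm T.w T.R T.len T.base C sw gw && subPermOK n T.w T.R sw [] O &&
    Nat.ble (C.p ^ C.m) (O.map fun e => e.2.length).prod && C.shapeOK

variable {T : Tab} {H : Subgroup (Equiv.Perm (Fin n))} {Γ : Type*} [Group Γ] [Finite Γ] {τ : Γ →* ↥H}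

/-- The bound at the prime of a certificate. -/
theorem part_le (M : Model n T H) (hτ : Cfsg.IsStemExtension τ) (C : Cert) (hp : C.p.Prime) {e : ℕ}
    (hN : C.N = C.p ^ e) (hb : C.bound < C.N) {r : ℕ} (hr : ¬ C.p ∣ r)
    (hord : (T.trans.map List.length).prod = C.p ^ C.m * r) {sw gw : List (List ℕ)}
    {O : List (ℕ × List (ℕ × List ℕ))} (hchk : certChecks n T C sw gw O = true) (hlin : C.linOK = true)
    (P : Subgroup Γ) (hP : P ≤ τ.ker) (hPp : IsPGroup C.p P) : Nat.card P ≤ C.bound := by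
  haveI : Fact C.p.Prime := ⟨hp⟩
  simp only [certChecks, Bool.and_eq_true] at hchk
  obtain ⟨⟨⟨hid, hsub⟩, hT⟩, hshape⟩ := hchk
  have hfac : (Nat.card ↥H).factorization C.p = C.m := by
    have hr0 : r ≠ 0 := by rintro rfl; simp at hr
    rw [M.card, hord, Nat.factorization_mul (pow_ne_zero _ hp.ne_zero) hr0, Finsupp.add_apply,
      Nat.Prime.factorization_pow hp, Finsupp.single_eq_same, Nat.factorization_eq_zero_of_not_dvd hr,
      add_zero]
  obtain ⟨γ, conj, h1, h2, h3, h4⟩ := perm_facts M.elt M.chain M.card M.base_lt C sw gw O hfac hid hsub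
    (Nat.le_of_ble_eq_true hT) hshape
  exact pGroup_card_le C hτ hN hb γ conj h1 h2 hshape hlin h3 h4 P hP hPp

/-- A prime not dividing the order leaves nothing. -/
theorem part_other (M : Model n T H) (hτ : Cfsg.IsStemExtension τ) {ℓ : ℕ} (hℓ : ℓ.Prime)
    (h : ¬ ℓ ∣ (T.trans.map List.length).prod) (P : Subgroup Γ) (hP : P ≤ τ.ker) (hPp : IsPGroup ℓ P) :
    Nat.card P ≤ 1 := by
  haveI : Fact ℓ.Prime := ⟨hℓ⟩
  obtain ⟨k, hk⟩ := IsPGroup.iff_card.1 hPp
  have h1 : ¬ ℓ ∣ Nat.card τ.ker :=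
    Lie.Mult.not_dvd_ker_of_cyclic hτ ⊥ (by rw [Subgroup.index_bot, M.card]; exact h)
  have h2 := Subgroup.card_dvd_of_le hP
  rw [hk] at h2 ⊢
  cases k with
  | zero => simp
  | succ k => exact absurd ((dvd_pow_self ℓ (Nat.succ_ne_zero k)).trans h2) h1

/-- A prime dividing the order once leaves nothing. -/
theorem part_once (M : Model n T H) (hτ : Cfsg.IsStemExtension τ) {ℓ r : ℕ} (hℓ : ℓ.Prime)
    (hord : (T.trans.map List.length).prod = ℓ * r) (hr : ¬ ℓ ∣ r) (P : Subgroup Γ) (hP : P ≤ τ.ker)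
    (hPp : IsPGroup ℓ P) : Nat.card P ≤ 1 := by
  haveI : Fact ℓ.Prime := ⟨hℓ⟩
  obtain ⟨k, hk⟩ := IsPGroup.iff_card.1 hPp
  obtain ⟨x, hx⟩ := exists_prime_orderOf_dvd_card' (G := ↥H) ℓ (by rw [M.card, hord]; exact dvd_mul_right _ _)
  have h1 : ¬ ℓ ∣ Nat.card τ.ker := Lie.Mult.not_dvd_ker_of_cyclic hτ (Subgroup.zpowers x) fun hd => by
    have h := (Subgroup.zpowers x).card_mul_index
    rw [Nat.card_zpowers, hx, M.card, hord, Nat.mul_left_cancel_iff hℓ.pos] at h
    exact hr (h ▸ hd)
  have h2 := Subgroup.card_dvd_of_le hP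
  rw [hk] at h2 ⊢
  cases k with
  | zero => simp
  | succ k => exact absurd ((dvd_pow_self ℓ (Nat.succ_ne_zero k)).trans h2) h1

omit [NeZero n] in
/-- The order of a finite group divides a number bounding all of its parts of prime power order. -/
theorem card_dvd_of_parts {K : Type*} [Group K] [Finite K] (S : Subgroup K) {N : ℕ} (hN : N ≠ 0)
    (h : ∀ ℓ : ℕ, ℓ.Prime → ∀ P : Subgroup K, P ≤ S → IsPGroup ℓ P → Nat.card P ≤ ℓ ^ N.factorization ℓ) :
    Nat.card S ∣ N := by
  refine (Nat.factorization_le_iff_dvd Nat.card_pos.ne' hN).1 fun ℓ => ?_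
  by_cases hℓ : ℓ.Prime
  · haveI : Fact ℓ.Prime := ⟨hℓ⟩
    obtain ⟨Q⟩ : Nonempty (Sylow ℓ S) := inferInstance
    have h1 := h ℓ hℓ (Q.toSubgroup.map S.subtype) (Subgroup.map_subtype_le _) (Q.2.map S.subtype)
    rw [Subgroup.card_subtype, Q.card_eq_multiplicity] at h1
    exact (Nat.pow_le_pow_iff_right hℓ.one_lt).1 h1
  · simp [Nat.factorization_eq_zero_of_not_prime _ hℓ]

end CfsgLib.Lie.MultExc
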