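import Cfsg.Agent.Lib.Lie.MultExc.Monomial
import Cfsg.Agent.Lib.PGroup.SchurUniversal
import Cfsg.Agent.Lib.Spor.SchurCert.PermBridge

/-!
A stem extension from monomial layers, and the multiplier from it together with a bound.
-/

set_option autoImplicit false

namespace CfsgLib.Lie.MultExc

open CfsgLib.Spor.PermCert
open scoped commutatorElement

variable {l : ℕ} (L : Fin l → Layer) (n : ℕ) [NeZero n]

/-- The ambient group. -/
abbrev Amb : Type := Equiv.Perm (Fin n) × ((i : Fin l) → Equiv.Perm (Fin (L i).nx × ZMod (L i).m))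

/-- The pairs satisfying every layer's relation. -/
def Good : Submonoid (Amb L n) where
  carrier := {a | ∀ i, (L i).Rel a.1 (a.2 i)}
  one_mem' := fun i => (L i).rel_one
  mul_mem' := fun ha hb i => (L i).rel_mul (ha i) (hb i)

/-- All checks on the generators. -/
def gensOK (w : ℕ) (R : Rows) (ngen : ℕ) : Bool :=
  (List.finRange l).all fun i => (L i).baseOK n &&
    (List.range ngen).all fun s => (L i).genOK n (look w R s) s

/-- A point after a word. -/
def runLayer (i : Fin l) (us : List ℕ) (q : ℕ × ℕ) : ℕ × ℕ := us.foldr (L i).step q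

/-- The difference between two words at the first point of a layer. -/
def diffAt (i : Fin l) (u v : List ℕ) : ℕ :=
  ((runLayer L i (u ++ v) (0, 0)).2 + ((L i).m - (runLayer L i (v ++ u) (0, 0)).2 % (L i).m)) % (L i).m

/-- Commutators of words giving the unit shifts. -/
def commsOK (w : ℕ) (R : Rows) (ngen : ℕ) (C : List (List ℕ × List ℕ)) : Bool :=
  (List.finRange l).all fun i =>
    let u := (C.getD i.1 ([], [])).1
    let v := (C.getD i.1 ([], [])).2
    ((u ++ v).all fun x => Nat.blt x ngen) &&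
    ((List.range n).all fun b => Nat.beq (comp w R (u ++ v) b) (comp w R (v ++ u) b)) &&
    (List.finRange l).all fun j =>
      Nat.beq (diffAt L j u v) (if i = j then 1 % (L j).m else 0)

variable {L n}

theorem exists_gens {w : ℕ} {R : Rows} {ngen : ℕ} (hok : gensOK L n w R ngen = true)
    (σ : ℕ → Equiv.Perm (Fin n)) (hσ : ∀ s < ngen, Matches w (σ s) R s) :
    ∃ g : ℕ → Amb L n, ∀ s < ngen, (g s).1 = σ s ∧ g s ∈ Good L n ∧
      ∀ i (x : Fin (L i).nx), (L i).img s x.1 < (L i).nx ∧ ∀ a : ZMod (L i).m,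
        (((g s).2 i (x, a)).1.1 = (L i).img s x.1 ∧
          ((g s).2 i (x, a)).2 = a + ((L i).off s x.1 : ZMod (L i).m)) := by
  classical
  simp only [gensOK, List.all_eq_true, List.mem_finRange, List.mem_range, Bool.and_eq_true,
    forall_const] at hok
  have h : ∀ s, s < ngen → ∀ i, ∃ g : Equiv.Perm (Fin (L i).nx × ZMod (L i).m), (L i).Rel (σ s) g ∧
      ∀ x : Fin (L i).nx, (L i).img s x.1 < (L i).nx ∧ ∀ a : ZMod (L i).m,
        ((g (x, a)).1.1 = (L i).img s x.1 ∧ (g (x, a)).2 = a + ((L i).off s x.1 : ZMod (L i).m)) :=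
    fun s hs i => (L i).exists_gen (hok i).1 ((hok i).2 s hs) fun j => hσ s hs j
  choose g hg hg' using h
  refine ⟨fun s => if hs : s < ngen then (σ s, g s hs) else 1, fun s hs => ?_⟩
  beta_reduce
  rw [dif_pos hs]
  exact ⟨rfl, fun i => hg s hs i, fun i x => hg' s hs i x⟩

/-- The evaluation of a word of generators on numbers. -/
theorem eval_word {ngen : ℕ} (g : ℕ → Amb L n)
    (hg : ∀ s < ngen, ∀ i (x : Fin (L i).nx), (L i).img s x.1 < (L i).nx ∧ ∀ a : ZMod (L i).m,
      (((g s).2 i (x, a)).1.1 = (L i).img s x.1 ∧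
        ((g s).2 i (x, a)).2 = a + ((L i).off s x.1 : ZMod (L i).m))) (i : Fin l) (hx : 0 < (L i).nx) :
    ∀ us : List ℕ, (∀ u ∈ us, u < ngen) →
      (((us.map g).prod).2 i (⟨0, hx⟩, 0)).1.1 = (runLayer L i us (0, 0)).1 ∧
      (((us.map g).prod).2 i (⟨0, hx⟩, 0)).2 = ((runLayer L i us (0, 0)).2 : ZMod (L i).m)
  | [], _ => by simp [runLayer]
  | u :: us, h => by
    obtain ⟨e1, e2⟩ := eval_word g hg i hx us fun v hv => h v (List.mem_cons_of_mem _ hv)
    obtain ⟨hlt, hstep⟩ := hg u (h u List.mem_cons_self) i (((us.map g).prod).2 i (⟨0, hx⟩, 0)).1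
    obtain ⟨s1, s2⟩ := hstep (((us.map g).prod).2 i (⟨0, hx⟩, 0)).2
    rw [List.map_cons, List.prod_cons, Prod.snd_mul, Pi.mul_apply, Equiv.Perm.mul_apply]
    rw [Prod.mk.eta] at s1 s2
    refine ⟨?_, ?_⟩
    · rw [s1, e1]; rfl
    · rw [s2, e1, e2]
      simp [runLayer, Layer.step]

/-- Shifts in every layer over the identity. -/
def shifts (c : (i : Fin l) → ZMod (L i).m) : Amb L n := (1, fun i => (L i).shift (c i))

/-- The homomorphism of shifts. -/
def shiftHom : Multiplicative ((i : Fin l) → ZMod (L i).m) →* Amb L n where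
  toFun c := shifts c.toAdd
  map_one' := Prod.ext rfl (funext fun i => Equiv.ext fun ⟨x, a⟩ => by
    show (x, a + (0 : ZMod (L i).m)) = (x, a)
    rw [add_zero])
  map_mul' c d := Prod.ext (mul_one _).symm (funext fun i => Equiv.ext fun ⟨x, a⟩ => by
    show (x, a + (c.toAdd i + d.toAdd i)) = (x, a + d.toAdd i + c.toAdd i)
    rw [add_assoc, add_comm (d.toAdd i)])

/-- The cover with kernel the product of the cyclic groups. -/
theorem exists_cover {w : ℕ} {R : Rows} {ngen : ℕ} {C : List (List ℕ × List ℕ)}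
    (hok : gensOK L n w R ngen = true) (hC : commsOK L n w R ngen C = true)
    (σ : ℕ → Equiv.Perm (Fin n)) (hσ : ∀ s < ngen, Matches w (σ s) R s)
    (H : Subgroup (Equiv.Perm (Fin n))) (hH : Subgroup.closure (σ '' {s | s < ngen}) = H) :
    ∃ (Γ : Type) (_ : Group Γ) (_ : Finite Γ) (τ : Γ →* ↥H), Cfsg.IsStemExtension τ ∧
      Nonempty (τ.ker ≃* Multiplicative ((i : Fin l) → ZMod (L i).m)) := by
  classical
  obtain ⟨g, hg⟩ := exists_gens hok σ hσ
  let Γ : Subgroup (Amb L n) := Subgroup.closure (g '' {s | s < ngen})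
  have hgood : ∀ a ∈ Γ, a ∈ Good L n := by
    intro a ha
    have ha' : a ∈ (Subgroup.closure (g '' {s | s < ngen})).toSubmonoid := ha
    rw [Subgroup.closure_toSubmonoid_of_finite] at ha'
    refine Submonoid.closure_le.2 ?_ ha'
    rintro _ ⟨s, hs, rfl⟩
    exact (hg s hs).2.1
  have himg : Γ.map (MonoidHom.fst _ _) = H := by
    rw [MonoidHom.map_closure, ← hH, Set.image_image]
    congr 1
    exact Set.image_congr fun s hs => (hg s hs).1
  let τ : Γ →* ↥H := ((MonoidHom.fst _ _).comp Γ.subtype).codRestrict H fun a => himg ▸ ⟨_, a.2, rfl⟩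
  have hsurj : Function.Surjective τ := fun h => by
    obtain ⟨a, ha, e⟩ := himg.ge h.2
    exact ⟨⟨a, ha⟩, Subtype.ext e⟩
  simp only [gensOK, List.all_eq_true, List.mem_finRange, Bool.and_eq_true, forall_const] at hok
  have hx : ∀ i, 0 < (L i).nx := fun i => by
    have := (hok i).1
    simp only [Layer.baseOK, Bool.and_eq_true] at this
    exact Nat.le_of_ble_eq_true this.1.1.1
  have hker : ∀ a : Amb L n, a ∈ Good L n → a.1 = 1 → ∃ c, a = shifts c := by
    intro a ha h1
    have h : ∀ i, ∃ c, a.2 i = (L i).shift c := fun i => (L i).eq_shift (hok i).1 (h1 ▸ ha i)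
    choose c hc using h
    exact ⟨c, Prod.ext h1 (funext hc)⟩
  have hcomm : ∀ a ∈ Good L n, ∀ c, a * shifts c = shifts c * a := fun a ha c =>
    Prod.ext ((mul_one _).trans (one_mul _).symm) (funext fun i => (L i).shift_comm (ha i) (c i))
  -- the commutators
  simp only [commsOK, List.all_eq_true, List.mem_finRange, List.mem_range, Bool.and_eq_true,
    forall_const] at hC
  have hgen : ∀ i : Fin l, ∃ z : Γ, z ∈ _root_.commutator Γ ∧
      (z : Amb L n) = shifts (Pi.single i 1) := by
    intro i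
    obtain ⟨⟨hlt, hbase⟩, hdiff⟩ := hC i
    set u := (C.getD i.1 ([], [])).1
    set v := (C.getD i.1 ([], [])).2
    have hlt' : ∀ x ∈ u ++ v, x < ngen := fun x hx => Nat.le_of_ble_eq_true (hlt x hx)
    have hmem : ∀ us : List ℕ, (∀ x ∈ us, x < ngen) → (us.map g).prod ∈ Γ := fun us hus =>
      list_prod_mem fun a ha => by
        obtain ⟨x, hx, rfl⟩ := List.mem_map.1 ha
        exact Subgroup.subset_closure ⟨x, hus x hx, rfl⟩
    let U : Γ := ⟨_, hmem u fun x hx => hlt' x (List.mem_append_left _ hx)⟩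
    let V : Γ := ⟨_, hmem v fun x hx => hlt' x (List.mem_append_right _ hx)⟩
    refine ⟨⁅U, V⁆, Subgroup.commutator_mem_commutator (Subgroup.mem_top _) (Subgroup.mem_top _), ?_⟩
    have huv : ((U * V : Γ) : Amb L n) = ((u ++ v).map g).prod := by
      rw [List.map_append, List.prod_append]; rfl
    have hvu : ((V * U : Γ) : Amb L n) = ((v ++ u).map g).prod := by
      rw [List.map_append, List.prod_append]; rfl
    have hlt2 : ∀ x ∈ v ++ u, x < ngen := fun x hx => hlt' x (by
      simpa [List.mem_append, or_comm] using hx)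
    have hfst : ∀ us : List ℕ, (∀ x ∈ us, x < ngen) → ∀ b : Fin n,
        (((us.map g).prod).1 b).1 = comp w R us b.1 := by
      intro us
      induction us with
      | nil => intros; rfl
      | cons x us ih =>
        intro h b
        rw [List.map_cons, List.prod_cons, Prod.fst_mul, Equiv.Perm.mul_apply,
          (hg x (h x List.mem_cons_self)).1, hσ x (h x List.mem_cons_self),
          ih (fun y hy => h y (List.mem_cons_of_mem _ hy))]
        rfl
    have e0 : ((⁅U, V⁆ : Γ) : Amb L n).1 = 1 := by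
      have e : ((U * V : Γ) : Amb L n).1 = ((V * U : Γ) : Amb L n).1 := Equiv.ext fun b => Fin.ext (by
        rw [huv, hvu, hfst _ hlt', hfst _ hlt2]
        exact Nat.eq_of_beq_eq_true (hbase b.1 b.2))
      rw [commutatorElement_def, show U * V * U⁻¹ * V⁻¹ = (U * V) * (V * U)⁻¹ by group,
        Subgroup.coe_mul, Subgroup.coe_inv, Prod.fst_mul, Prod.fst_inv, e, mul_inv_cancel]
    obtain ⟨c, hc⟩ := hker _ (hgood _ (⁅U, V⁆ : Γ).2) e0
    rw [hc]
    congr 1
    funext j
    have key : ((U * V : Γ) : Amb L n).2 j = (L j).shift (c j) * ((V * U : Γ) : Amb L n).2 j := by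
      have : ((U * V : Γ) : Amb L n) = shifts c * ((V * U : Γ) : Amb L n) := by
        rw [← hc, ← Subgroup.coe_mul, commutatorElement_def]
        congr 1
        group
      rw [this]
      rfl
    have k2 := congrArg (fun p : Equiv.Perm (Fin (L j).nx × ZMod (L j).m) => (p (⟨0, hx j⟩, 0)).2) key
    simp only [Equiv.Perm.mul_apply, Layer.shift_apply] at k2
    have hev := fun us hus => (eval_word g (fun s hs => (hg s hs).2.2) j (hx j) us hus).2
    rw [huv, hvu, show ((L j).shift (c j) ((((v ++ u).map g).prod).2 j (⟨0, hx j⟩, 0))).2 =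
      ((((v ++ u).map g).prod).2 j (⟨0, hx j⟩, 0)).2 + c j from rfl, hev _ hlt', hev _ hlt2] at k2
    have hd := congrArg (fun k : ℕ => (k : ZMod (L j).m)) (Nat.eq_of_beq_eq_true (hdiff j))
    simp only [diffAt, ZMod.natCast_mod, Nat.cast_add, Nat.cast_sub (Nat.mod_lt _ (Nat.succ_pos _)).le,
      ZMod.natCast_self, k2] at hd
    rcases eq_or_ne i j with rfl | hij
    · rw [Pi.single_eq_same]
      rw [if_pos rfl, ZMod.natCast_mod, Nat.cast_one] at hd
      linear_combination hd
    · rw [Pi.single_eq_of_ne (Ne.symm hij)]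
      rw [if_neg hij, Nat.cast_zero] at hd
      linear_combination hd
  -- all shifts are in the derived subgroup
  have hall : ∀ c : Multiplicative ((i : Fin l) → ZMod (L i).m),
      ∃ z : Γ, z ∈ _root_.commutator Γ ∧ (z : Amb L n) = shiftHom c := by
    intro c
    have hc : c ∈ ((_root_.commutator Γ).map Γ.subtype).comap shiftHom := by
      have : c = ∏ i, Multiplicative.ofAdd (Pi.single i (1 : ZMod (L i).m)) ^ (c.toAdd i).val := by
        apply Multiplicative.toAdd.injective
        rw [toAdd_prod]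
        funext j
        rw [Finset.sum_apply, Finset.sum_eq_single j]
        · simp
        · intro b _ hb; simp [Pi.single_eq_of_ne (Ne.symm hb)]
        · simp
      rw [this]
      refine Subgroup.prod_mem _ fun i _ => Subgroup.pow_mem _ ?_ _
      obtain ⟨z, hz, e⟩ := hgen i
      exact ⟨z, hz, e⟩
    obtain ⟨z, hz, e⟩ := hc
    exact ⟨z, hz, e⟩
  choose z hz hz' using hall
  let φ : Multiplicative ((i : Fin l) → ZMod (L i).m) →* τ.ker :=
    (((shiftHom : _ →* Amb L n)).codRestrict Γ fun c => hz' c ▸ (z c).2).codRestrict τ.ker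
      fun c => Subtype.ext rfl
  have hφi : Function.Injective φ := fun c d e => by
    apply Multiplicative.toAdd.injective
    funext i
    have e' := congrArg (fun a : τ.ker => ((a.1 : Amb L n).2 i (⟨0, hx i⟩, 0)).2) e
    simpa [φ, shiftHom, shifts, Layer.shift_apply] using e'
  have hφs : Function.Surjective φ := fun a => by
    have h1 : (a.1 : Amb L n).1 = 1 := congrArg Subtype.val (a.2 : τ a.1 = 1)
    obtain ⟨c, hc⟩ := hker _ (hgood _ a.1.2) h1
    exact ⟨Multiplicative.ofAdd c, Subtype.ext (Subtype.ext hc.symm)⟩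
  refine ⟨Γ, inferInstance, inferInstance, τ, ⟨hsurj, ?_, ?_⟩, ⟨(MulEquiv.ofBijective φ ⟨hφi, hφs⟩).symm⟩⟩
  · intro a ha
    obtain ⟨c, hc⟩ := hφs ⟨a, ha⟩
    obtain rfl : (φ c).1 = a := congrArg Subtype.val hc
    exact Subgroup.mem_center_iff.2 fun b => Subtype.ext (hcomm _ (hgood _ b.2) _)
  · intro a ha
    obtain ⟨c, hc⟩ := hφs ⟨a, ha⟩
    obtain rfl : (φ c).1 = a := congrArg Subtype.val hc
    rw [show (φ c).1 = z c from Subtype.ext (hz' c).symm]
    exact hz c

universe u v

omit [NeZero n] in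
/-- An extension composed with an isomorphism is still a stem extension. -/
theorem stem_trans {Γ : Type*} [Group Γ] {A : Type*} [Group A] {B : Type*} [Group B] {τ : Γ →* A}
    (hτ : Cfsg.IsStemExtension τ) (e : A ≃* B) : Cfsg.IsStemExtension (e.toMonoidHom.comp τ) := by
  have hk : (e.toMonoidHom.comp τ).ker = τ.ker := by
    ext x
    simp [MonoidHom.mem_ker]
  exact ⟨e.surjective.comp hτ.1, hk ▸ hτ.2.1, hk ▸ hτ.2.2⟩

omit [NeZero n] in
/-- A cover whose kernel is as large as the bound gives the multiplier, in any universes. -/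
theorem hasSchurMultiplier_of_cover_bound {G : Type u} [Group G] [Finite G] {A : Type v} [CommGroup A]
    {Q : Type} [Group Q] (e : Q ≃* G) {Γ : Type} [Group Γ] [Finite Γ] {τ : Γ →* Q}
    (hτ : Cfsg.IsStemExtension τ) (hA : Nonempty (τ.ker ≃* A))
    (bound : ∀ (Δ : Type u) [Group Δ] [Finite Δ] (π : Δ →* Q), Cfsg.IsStemExtension π →
      Nat.card π.ker ∣ Nat.card A) : Cfsg.HasSchurMultiplier G A := by
  obtain ⟨f⟩ := hA
  have hτ' := stem_trans hτ e
  have hk : (e.toMonoidHom.comp τ).ker = τ.ker := by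
    ext x
    simp [MonoidHom.mem_ker]
  obtain ⟨π, hπ⟩ := CfsgLib.Schur.exists_surjection G hτ'
  obtain ⟨Δ, _, _, δ, hδ, ⟨m⟩, -⟩ := CfsgLib.Schur.exists_cover_over G (MonoidHom.id G)
    CfsgLib.Schur.isStem_id
  have hδ' := stem_trans hδ e.symm
  have hk' : (e.symm.toMonoidHom.comp δ).ker = δ.ker := by
    ext x
    simp [MonoidHom.mem_ker]
  have h1 := bound Δ _ hδ'
  rw [hk', Nat.card_congr m.toEquiv, ← Nat.card_congr f.toEquiv] at h1
  have hb : Function.Bijective π := (Nat.bijective_iff_surjective_and_card π).2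
    ⟨hπ, le_antisymm (by rw [hk]; exact Nat.le_of_dvd Nat.card_pos h1)
      (Nat.card_le_card_of_surjective π hπ)⟩
  exact CfsgLib.Schur.hasSchurMultiplier_of_equiv
    (f.symm.trans ((MulEquiv.subgroupCongr hk).symm.trans (MulEquiv.ofBijective π hb).symm))

end CfsgLib.Lie.MultExc
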