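import Cfsg.Agent.Lib.Spor.PermCert.Basic

/-!
Monomial actions over a permutation group: blocks permuted as labelled by pairs of base points, offsets
in a cyclic group, and an invariant gain graph forcing the elements over the identity to be constant shifts.
-/

set_option autoImplicit false

namespace CfsgLib.Lie.MultExc

open CfsgLib.Spor.PermCert

/-- One block: its label, the label as a bit set, its neighbours with one more than the gain, the same packed. -/
structure Block where
  lab : List ℕ
  mask : ℕ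
  adj : List (ℕ × ℕ)
  row : ℕ

/-- The data of one monomial action: images and offsets of the generators are packed. -/
structure Layer where
  nx : ℕ
  /-- One less than the modulus. -/
  m1 : ℕ
  w : ℕ
  /-- The bits of one edge entry. -/
  we : ℕ
  perms : List ℕ
  offs : List ℕ
  /-- Whether the labels are pairs of base points, coded as `a * n + b`, or single ones. -/
  pairs : Bool
  /-- The blocks in pieces of thirty-two. -/
  blocks : List (List Block)
  /-- A spanning tree as pairs of a block and one met before it. -/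
  tree : List (ℕ × ℕ)

/-- An entry of a packed list. -/
def unp (w v i : ℕ) : ℕ := (v >>> (w * i)) &&& (2 ^ w - 1)

/-- Packing listed entries. -/
def packEnt (w : ℕ) : List (ℕ × ℕ) → ℕ
  | [] => 0
  | e :: t => (e.2 &&& (2 ^ w - 1)) <<< (w * e.1) ||| packEnt w t

theorem exists_of_unp : ∀ {w : ℕ} {l : List (ℕ × ℕ)} {y : ℕ}, unp w (packEnt w l) y ≠ 0 → ∃ e ∈ l, e.1 = y
  | w, [], y, h => by simp [unp, packEnt] at h
  | w, e :: t, y, h => by
    by_contra hne
    simp only [List.mem_cons, exists_eq_or_imp, not_or] at hne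
    refine hne.2 (exists_of_unp (w := w) fun h0 => h (Nat.eq_of_testBit_eq fun j => ?_))
    have hj := congrArg (fun v => Nat.testBit v j) h0
    simp only [unp, Nat.testBit_and, Nat.testBit_shiftRight, Nat.testBit_two_pow_sub_one,
      Nat.zero_testBit] at hj ⊢
    simp only [packEnt, Nat.testBit_or, Nat.testBit_shiftLeft, Nat.testBit_and, Nat.testBit_two_pow_sub_one]
    by_cases hjw : j < w
    · simp only [hjw, decide_true, Bool.and_true] at hj ⊢
      rw [hj, Bool.or_false]
      by_cases hle : w * e.1 ≤ w * y + j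
      · have : ¬ w * y + j - w * e.1 < w := fun hlt => by
          rcases Nat.lt_trichotomy e.1 y with h1 | h1 | h1
          · have := Nat.mul_le_mul_left w (show e.1 + 1 ≤ y from h1)
            rw [Nat.mul_add, Nat.mul_one] at this
            omega
          · exact hne.1 h1
          · have := Nat.mul_le_mul_left w (show y + 1 ≤ e.1 from h1)
            rw [Nat.mul_add, Nat.mul_one] at this
            omega
        simp [this]
      · simp [hle]
    · simp [hjw]

/-- A set of numbers as bits. -/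
def bitSet : List ℕ → ℕ
  | [] => 0
  | c :: t => 1 <<< c ||| bitSet t

theorem testBit_bitSet : ∀ (l : List ℕ) (c : ℕ), Nat.testBit (bitSet l) c = l.contains c
  | [], c => by simp [bitSet]
  | a :: t, c => by
    rw [bitSet, Nat.testBit_or, testBit_bitSet t c, Nat.one_shiftLeft, Nat.testBit_two_pow,
      List.contains_cons]
    congr 1
    rw [Bool.eq_iff_iff, decide_eq_true_eq, beq_iff_eq]
    exact eq_comm

variable (L : Layer)

/-- A block. -/
def Layer.blk (x : ℕ) : Block := (L.blocks.getD (x / 32) []).getD (x % 32) ⟨[], 0, [], 0⟩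

/-- The modulus. -/
abbrev Layer.m : ℕ := L.m1 + 1

/-- The image of a block under a generator. -/
def Layer.img (s x : ℕ) : ℕ := unp L.w (L.perms.getD s 0) x

/-- The offset of a block under a generator. -/
def Layer.off (s x : ℕ) : ℕ := unp L.w (L.offs.getD s 0) x

/-- The edge entry. -/
def Layer.ev (x y : ℕ) : ℕ := unp L.we (L.blk x).row y

/-- The gain of an edge. -/
def Layer.gain (x y : ℕ) : Option (ZMod L.m) :=
  if L.ev x y = 0 then none else some ((L.ev x y - 1 : ℕ) : ZMod L.m)

/-- The number of codes of labels. -/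
def Layer.bnd (n : ℕ) : ℕ := if L.pairs then n * n else n

/-- The image of a code under a map of the base points. -/
def Layer.codeImg (n : ℕ) (h : ℕ → ℕ) (c : ℕ) : ℕ := if L.pairs then h (c / n) * n + h (c % n) else h c

/-- The first-order checks on one generator, with the images of the base points given. -/
def Layer.genOK (n : ℕ) (h : ℕ → ℕ) (s : ℕ) : Bool :=
  let P := L.perms.getD s 0
  let F := L.offs.getD s 0
  Nat.beq (bitSet ((List.range L.nx).map fun x => unp L.w P x)) (2 ^ L.nx - 1) &&
  (List.range L.nx).all fun x =>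
    let x' := unp L.w P x
    let b := L.blk x
    let b' := L.blk x'
    (b.lab.all fun c => Nat.testBit b'.mask (L.codeImg n h c)) &&
    (let r := b.row
     let r' := b'.row
     let o := L.m - unp L.w F x % L.m
     b.adj.all fun q =>
       Nat.beq (unp L.we r' (unp L.w P q.1)) ((unp L.we r q.1 - 1 + unp L.w F q.1 + o) % L.m + 1))

/-- Walking along a tree: the blocks met so far, as bits. -/
def Layer.treeRun : List (ℕ × ℕ) → ℕ → Option ℕ
  | [], seen => some seen
  | e :: t, seen =>
    if Nat.testBit seen e.2 && Nat.blt e.1 L.nx && !Nat.beq (L.ev e.2 e.1) 0 then Layer.treeRun t (seen ||| 1 <<< e.1) else none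

/-- The checks on the labels, the packed copies and the spanning tree of the gain graph. -/
def Layer.baseOK (n : ℕ) : Bool :=
  Nat.blt 0 L.nx &&
  ((List.range L.nx).all fun x =>
    let b := L.blk x
    (b.lab.all fun c => Nat.blt c (L.bnd n)) && Nat.beq b.mask (bitSet b.lab) &&
      Nat.beq b.row (packEnt L.we b.adj)) &&
  ((List.range (L.nx - 1)).all fun x => Nat.blt (L.blk x).mask (L.blk (x + 1)).mask) &&
  (L.treeRun L.tree 1 == some (2 ^ L.nx - 1))

variable {n : ℕ} [NeZero n]

/-- A permutation of the points on numbers. -/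
def natFun (h : Equiv.Perm (Fin n)) (i : ℕ) : ℕ := (h (pnt n i)).1

theorem natFun_mul (h h' : Equiv.Perm (Fin n)) (i : ℕ) : natFun (h * h') i = natFun h (natFun h' i) := by
  rw [natFun, natFun, natFun, Equiv.Perm.mul_apply, show pnt n (h' (pnt n i)).1 = h' (pnt n i) from
    Fin.ext (pnt_val (h' (pnt n i)).2)]

theorem natFun_one {i : ℕ} (hi : i < n) : natFun (1 : Equiv.Perm (Fin n)) i = i := pnt_val hi

theorem Layer.codeImg_lt {h : Equiv.Perm (Fin n)} {c : ℕ} : L.codeImg n (natFun h) c < L.bnd n := by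
  have h1 := (h (pnt n (c / n))).2
  have h2 := (h (pnt n (c % n))).2
  unfold Layer.codeImg Layer.bnd natFun
  split
  · calc (h (pnt n (c / n))).1 * n + (h (pnt n (c % n))).1
        < (h (pnt n (c / n))).1 * n + n := Nat.add_lt_add_left h2 _
      _ ≤ n * n := by rw [← Nat.succ_mul]; exact Nat.mul_le_mul_right _ h1
  · exact (h (pnt n c)).2

theorem Layer.codeImg_mul (h h' : Equiv.Perm (Fin n)) (c : ℕ) :
    L.codeImg n (natFun h) (L.codeImg n (natFun h') c) = L.codeImg n (natFun (h * h')) c := by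
  have hn : 0 < n := NeZero.pos n
  have h2 : natFun h' (c % n) < n := (h' (pnt n (c % n))).2
  unfold Layer.codeImg
  split
  · rw [natFun_mul, natFun_mul, Nat.mul_comm (natFun h' (c / n)) n, Nat.mul_add_div hn,
      Nat.div_eq_of_lt h2, Nat.add_zero, Nat.mul_add_mod, Nat.mod_eq_of_lt h2]
  · rw [natFun_mul]

theorem Layer.codeImg_one {c : ℕ} (hc : c < L.bnd n) : L.codeImg n (natFun (1 : Equiv.Perm (Fin n))) c = c := by
  have hn : 0 < n := NeZero.pos n
  unfold Layer.codeImg
  unfold Layer.bnd at hc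
  split
  · rename_i hp
    rw [if_pos hp] at hc
    rw [natFun_one (Nat.div_lt_of_lt_mul hc), natFun_one (Nat.mod_lt _ hn), Nat.div_add_mod' c n]
  · rename_i hp
    rw [if_neg hp] at hc
    exact natFun_one hc

/-- A pair of an element of the base group and of a monomial permutation over it. -/
def Layer.Rel (h : Equiv.Perm (Fin n)) (g : Equiv.Perm (Fin L.nx × ZMod L.m)) : Prop :=
  ∃ (π : Fin L.nx → Fin L.nx) (f : Fin L.nx → ZMod L.m),
    (∀ x a, g (x, a) = (π x, a + f x)) ∧
    (∀ x : Fin L.nx, ∀ c ∈ (L.blk x.1).lab, c < L.bnd n →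
      L.codeImg n (natFun h) c ∈ (L.blk (π x).1).lab) ∧
    ∀ (x y : Fin L.nx) (c : ZMod L.m), L.gain x.1 y.1 = some c →
      L.gain (π x).1 (π y).1 = some (c + f y - f x)

theorem Layer.rel_one : L.Rel (1 : Equiv.Perm (Fin n)) 1 :=
  ⟨id, 0, fun x a => by simp, fun x c hc hb => by rwa [L.codeImg_one hb], fun x y c h => by simpa using h⟩

theorem Layer.rel_mul {h h' : Equiv.Perm (Fin n)} {g g' : Equiv.Perm (Fin L.nx × ZMod L.m)}
    (hg : L.Rel h g) (hg' : L.Rel h' g') : L.Rel (h * h') (g * g') := by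
  obtain ⟨π, f, h1, h2, h3⟩ := hg
  obtain ⟨π', f', h1', h2', h3'⟩ := hg'
  refine ⟨π ∘ π', fun x => f' x + f (π' x), fun x a => ?_, fun x c hc hb => ?_, fun x y c hc => ?_⟩
  · rw [Equiv.Perm.mul_apply, h1', h1, add_assoc]
    rfl
  · rw [← L.codeImg_mul]
    exact h2 (π' x) _ (h2' x c hc hb) L.codeImg_lt
  · have := h3 _ _ _ (h3' x y c hc)
    rw [Function.comp_apply, Function.comp_apply, this]
    congr 1
    ring

/-- A constant shift. -/
def Layer.shift (c : ZMod L.m) : Equiv.Perm (Fin L.nx × ZMod L.m) :=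
  Equiv.prodCongr (Equiv.refl _) (Equiv.addRight c)

theorem Layer.shift_apply (c : ZMod L.m) (x : Fin L.nx) (a : ZMod L.m) :
    L.shift c (x, a) = (x, a + c) := rfl

theorem Layer.shift_comm {h : Equiv.Perm (Fin n)} {g : Equiv.Perm (Fin L.nx × ZMod L.m)}
    (hg : L.Rel h g) (c : ZMod L.m) : g * L.shift c = L.shift c * g := by
  obtain ⟨π, f, h1, -, -⟩ := hg
  refine Equiv.ext fun ⟨x, a⟩ => ?_
  rw [Equiv.Perm.mul_apply, Equiv.Perm.mul_apply, h1, L.shift_apply, h1, L.shift_apply]
  exact Prod.ext rfl (add_right_comm a c (f x))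

theorem Layer.eq_shift (hb : L.baseOK n = true) {g : Equiv.Perm (Fin L.nx × ZMod L.m)}
    (hg : L.Rel (1 : Equiv.Perm (Fin n)) g) : ∃ c, g = L.shift c := by
  obtain ⟨π, f, h1, h2, h3⟩ := hg
  simp only [Layer.baseOK, Bool.and_eq_true, List.all_eq_true, List.mem_range, Bool.not_eq_true'] at hb
  obtain ⟨⟨⟨h0, hrow⟩, hinj⟩, htree⟩ := hb
  have hπi : Function.Injective π := fun x y e => by
    have : g (x, 0) = g (y, f x - f y) := by rw [h1, h1, e, zero_add, sub_add_cancel]
    exact congrArg Prod.fst (g.injective this)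
  have hsub : ∀ x : Fin L.nx, ∀ c ∈ (L.blk x.1).lab, c ∈ (L.blk (π x).1).lab := fun x c hc => by
    have hc' : c < L.bnd n := Nat.le_of_ble_eq_true ((hrow x.1 x.2).1.1 c hc)
    have := h2 x c hc hc'
    rwa [L.codeImg_one hc'] at this
  have hsubk : ∀ (k : ℕ) (x : Fin L.nx), ∀ c ∈ (L.blk x.1).lab, c ∈ (L.blk (π^[k] x).1).lab := by
    intro k
    induction k with
    | zero => intro x c hc; exact hc
    | succ k ih =>
      intro x c hc
      rw [Function.iterate_succ_apply]
      exact ih _ c (hsub x c hc)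
  have hmask : ∀ x : Fin L.nx, (L.blk (π x).1).mask = (L.blk x.1).mask := fun x => by
    obtain ⟨k, hk0, hk⟩ := Function.Injective.mem_periodicPts hπi x
    rw [Nat.eq_of_beq_eq_true (hrow _ (π x).2).1.2, Nat.eq_of_beq_eq_true (hrow _ x.2).1.2]
    refine Nat.eq_of_testBit_eq fun c => ?_
    rw [testBit_bitSet, testBit_bitSet, Bool.eq_iff_iff, List.contains_iff_mem, List.contains_iff_mem]
    refine ⟨fun hc => ?_, hsub x c⟩
    have := hsubk (k - 1) (π x) c hc
    rwa [← Function.iterate_succ_apply, show (k - 1).succ = k by omega, hk.eq] at this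
  have hinc : ∀ d a, a + d + 1 < L.nx → (L.blk a).mask < (L.blk (a + d + 1)).mask := by
    intro d
    induction d with
    | zero => intro a h; exact Nat.le_of_ble_eq_true (hinj a (by omega))
    | succ d ih =>
      intro a h
      exact lt_trans (ih a (by omega)) (Nat.le_of_ble_eq_true (hinj (a + d + 1) (by omega)))
  have hne_of_lt : ∀ x y : Fin L.nx, y.1 < x.1 → (L.blk y.1).mask ≠ (L.blk x.1).mask := fun x y hxy => by
    have := hinc (x.1 - y.1 - 1) y.1 (by omega)
    rw [show y.1 + (x.1 - y.1 - 1) + 1 = x.1 by omega] at this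
    exact this.ne
  have hπ : ∀ x, π x = x := fun x => by
    rcases Nat.lt_trichotomy (π x).1 x.1 with h' | h' | h'
    · exact absurd (hmask x) (hne_of_lt x (π x) h')
    · exact Fin.ext h'
    · exact absurd (hmask x).symm (hne_of_lt (π x) x h')
  have hpos : 0 < L.nx := Nat.le_of_ble_eq_true h0
  have hrun : ∀ (t : List (ℕ × ℕ)) (seen r : ℕ), L.treeRun t seen = some r →
      (∀ k, Nat.testBit seen k = true → ∃ hk : k < L.nx, f ⟨k, hk⟩ = f ⟨0, hpos⟩) →
      ∀ k, Nat.testBit r k = true → ∃ hk : k < L.nx, f ⟨k, hk⟩ = f ⟨0, hpos⟩ := by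
    intro t
    induction t with
    | nil => intro seen r h ho; simp only [Layer.treeRun, Option.some.injEq] at h; exact h ▸ ho
    | cons e t ih =>
      intro seen r h ho
      rw [Layer.treeRun] at h
      split at h
      · rename_i hcond
        simp only [Bool.and_eq_true, Bool.not_eq_true'] at hcond
        refine ih _ r h fun k hk => ?_
        rw [Nat.testBit_or, Bool.or_eq_true, Nat.one_shiftLeft, Nat.testBit_two_pow, decide_eq_true_eq] at hk
        rcases hk with hk | rfl
        · exact ho k hk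
        · have hne : L.ev e.2 e.1 ≠ 0 := fun e0 => by simp [e0] at hcond
          have hkn : e.1 < L.nx := Nat.le_of_ble_eq_true hcond.1.2
          obtain ⟨hp, hfp⟩ := ho e.2 hcond.1.1
          have hg : L.gain e.2 e.1 = some ((L.ev e.2 e.1 - 1 : ℕ) : ZMod L.m) := if_neg hne
          have h4 := h3 ⟨_, hp⟩ ⟨e.1, hkn⟩ _ hg
          rw [hπ, hπ, hg, Option.some.injEq, add_sub_assoc, eq_comm, add_eq_left, sub_eq_zero] at h4
          exact ⟨hkn, by rw [h4, hfp]⟩
      · exact absurd h (by simp)
  have hconst : ∀ k (hk : k < L.nx), f ⟨k, hk⟩ = f ⟨0, hpos⟩ := fun k hk =>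
    (hrun L.tree 1 (2 ^ L.nx - 1) (beq_iff_eq.1 htree)
      (fun j hj => by
        rw [← pow_zero 2, Nat.testBit_two_pow, decide_eq_true_eq] at hj
        subst hj; exact ⟨hpos, rfl⟩)
      k (by rw [Nat.testBit_two_pow_sub_one]; exact decide_eq_true hk)).2
  refine ⟨f ⟨0, hpos⟩, Equiv.ext fun ⟨x, a⟩ => ?_⟩
  rw [h1, hπ, L.shift_apply, show f x = f ⟨0, hpos⟩ from hconst x.1 x.2]

/-- A point of the monomial action from numbers. -/
def Layer.point (hx : 0 < L.nx) (q : ℕ × ℕ) : Fin L.nx × ZMod L.m :=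
  (⟨q.1 % L.nx, Nat.mod_lt _ hx⟩, (q.2 : ZMod L.m))

/-- The step of a generator on numbers. -/
def Layer.step (s : ℕ) (q : ℕ × ℕ) : ℕ × ℕ := (L.img s q.1, (q.2 + L.off s q.1) % L.m)

theorem Layer.exists_gen (hb : L.baseOK n = true) {s : ℕ} {h : ℕ → ℕ} (hok : L.genOK n h s = true) {σ : Equiv.Perm (Fin n)}
    (hσ : ∀ i : Fin n, (σ i).1 = h i.1) :
    ∃ g : Equiv.Perm (Fin L.nx × ZMod L.m), L.Rel σ g ∧
      ∀ x : Fin L.nx, L.img s x.1 < L.nx ∧
        ∀ a : ZMod L.m, ((g (x, a)).1.1 = L.img s x.1 ∧ (g (x, a)).2 = a + (L.off s x.1 : ZMod L.m)) := by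
  simp only [Layer.genOK, Bool.and_eq_true, List.all_eq_true, List.mem_range] at hok
  obtain ⟨hnd, hall⟩ := hok
  have hbits : ∀ y, ((List.range L.nx).map fun x => unp L.w (L.perms.getD s 0) x).contains y = decide (y < L.nx) :=
    fun y => by rw [← testBit_bitSet, Nat.eq_of_beq_eq_true hnd, Nat.testBit_two_pow_sub_one]
  have hlt : ∀ x : Fin L.nx, L.img s x.1 < L.nx := fun x => by
    have h' := hbits (L.img s x.1)
    have hc : ((List.range L.nx).map fun x => unp L.w (L.perms.getD s 0) x).contains (L.img s x.1) = true :=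
      List.contains_iff_mem.2 (List.mem_map.2 ⟨x.1, List.mem_range.2 x.2, rfl⟩)
    rw [hc, eq_comm, decide_eq_true_eq] at h'
    exact h'
  let π : Fin L.nx → Fin L.nx := fun x => ⟨L.img s x.1, hlt x⟩
  have hπ : Function.Injective π := Finite.injective_iff_surjective.2 fun y => by
    have h' := hbits y.1
    rw [decide_eq_true y.2, List.contains_iff_mem, List.mem_map] at h'
    obtain ⟨x, hx, e⟩ := h'
    exact ⟨⟨x, List.mem_range.1 hx⟩, Fin.ext e⟩
  let F : Fin L.nx × ZMod L.m → Fin L.nx × ZMod L.m := fun q => (π q.1, q.2 + (L.off s q.1.1 : ZMod L.m))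
  have hF : Function.Injective F := fun q q' e => by
    have e1 := hπ (congrArg Prod.fst e)
    have e2 := congrArg Prod.snd e
    simp only [F, e1, add_left_inj] at e2
    exact Prod.ext e1 e2
  refine ⟨Equiv.ofBijective F ((Finite.injective_iff_bijective).1 hF), ⟨π, fun x => (L.off s x.1 : ZMod L.m),
    fun x a => rfl, fun x c hc _ => ?_, fun x y c hc => ?_⟩, fun x => ⟨hlt x, fun a => ⟨rfl, rfl⟩⟩⟩
  · simp only [Layer.baseOK, Bool.and_eq_true, List.all_eq_true, List.mem_range] at hb
    have hc' : c < L.bnd n := Nat.le_of_ble_eq_true ((hb.1.1.2 x.1 x.2).1.1 c hc)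
    have e : L.codeImg n (natFun σ) c = L.codeImg n h c := by
      have hσ' : ∀ i, i < n → natFun σ i = h i := fun i hi => by
        rw [natFun, hσ, pnt_val hi]
      have hn : 0 < n := NeZero.pos n
      unfold Layer.codeImg
      unfold Layer.bnd at hc'
      split
      · rename_i hp
        rw [if_pos hp] at hc'
        rw [hσ' _ (Nat.div_lt_of_lt_mul hc'), hσ' _ (Nat.mod_lt _ hn)]
      · rename_i hp
        rw [if_neg hp] at hc'
        rw [hσ' _ hc']
    have hmem : Nat.testBit ((L.blk (L.img s x.1)).mask) (L.codeImg n h c) = true :=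
      (hall x.1 x.2).1 c hc
    rw [Nat.eq_of_beq_eq_true (hb.1.1.2 _ (hlt x)).1.2, testBit_bitSet, List.contains_iff_mem, ← e] at hmem
    exact hmem
  · simp only [Layer.baseOK, Bool.and_eq_true, List.all_eq_true, List.mem_range] at hb
    simp only [Layer.gain] at hc ⊢
    by_cases he : L.ev x.1 y.1 = 0
    · rw [if_pos he] at hc
      simp at hc
    rw [if_neg he, Option.some.injEq] at hc
    obtain ⟨q, hq, hq1⟩ := exists_of_unp (w := L.we) (l := (L.blk x.1).adj) (y := y.1) (by
      rw [← Nat.eq_of_beq_eq_true (hb.1.1.2 x.1 x.2).2]; exact he)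
    have h2 : L.ev (π x).1 (π y).1 =
        (L.ev x.1 y.1 - 1 + L.off s y.1 + (L.m - L.off s x.1 % L.m)) % L.m + 1 := by
      have := Nat.eq_of_beq_eq_true ((hall x.1 x.2).2 q hq)
      rw [hq1] at this
      exact this
    rw [if_neg (by rw [h2]; exact Nat.succ_ne_zero _), Option.some.injEq, h2, Nat.add_sub_cancel,
      ZMod.natCast_mod, Nat.cast_add, Nat.cast_add, Nat.cast_sub (Nat.mod_lt _ (Nat.succ_pos _)).le,
      ZMod.natCast_self, ZMod.natCast_mod, hc]
    ring

end CfsgLib.Lie.MultExc
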