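import Mathlib

/-!
A central extension by a group of exponent two of a subgroup of odd index, whose commutator pairing on
commuting elements is invariant under fusion, gives a central extension of the whole group with the same
kernel; pairs `(a, b)` of commuting elements with `a` an involution put their commutators into the derived
group.
-/

set_option autoImplicit false

open scoped commutatorElement IsMulCommutative

namespace CfsgLib.Lie.MultExc.OddTransfer

variable {G : Type*} [Group G] {P : Type*} [Group P] (U : Subgroup G) (p : P →* G)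

/-- pointwise functions on the cosets with the shifted action -/
noncomputable def act : G →* MulAut (G ⧸ U → P) where
  toFun g :=
    { toFun := fun F y => F (g⁻¹ • y)
      invFun := fun F y => F (g • y)
      left_inv := fun F => funext fun y => by simp
      right_inv := fun F => funext fun y => by simp
      map_mul' := fun _ _ => rfl }
  map_one' := MulEquiv.ext fun F => funext fun y => by simp
  map_mul' g h := MulEquiv.ext fun F => funext fun y => by simp [mul_smul, mul_inv_rev]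

/-- the representative -/
noncomputable def sec (y : G ⧸ U) : G := y.out

theorem sec_mk (y : G ⧸ U) : QuotientGroup.mk (sec U y) = y := Quotient.out_eq y

/-- the monomial coordinate -/
noncomputable def mu (g : G) (y : G ⧸ U) : G := (sec U y)⁻¹ * g * sec U (g⁻¹ • y)

theorem mu_mem (g : G) (y : G ⧸ U) : mu U g y ∈ U := by
  rw [mu, mul_assoc]
  refine QuotientGroup.eq.1 ?_
  rw [sec_mk]
  conv_rhs => rw [show (QuotientGroup.mk (g * sec U (g⁻¹ • y)) : G ⧸ U) = g • QuotientGroup.mk (sec U (g⁻¹ • y)) from rfl,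
    sec_mk, smul_inv_smul]

theorem mu_mul (g h : G) (y : G ⧸ U) : mu U (g * h) y = mu U g y * mu U h (g⁻¹ • y) := by
  simp only [mu, mul_inv_rev, mul_smul]
  group

theorem mu_fixed {g : G} {y : G ⧸ U} (h : g • y = y) : mu U g y = (sec U y)⁻¹ * g * sec U y := by
  rw [mu, inv_smul_eq_iff.2 h.symm]

/-- lifted monomial elements -/
noncomputable def Wsub : Subgroup ((G ⧸ U → P) ⋊[act U] G) where
  carrier := {w | ∀ y, p (w.left y) = mu U w.right y}
  one_mem' y := by
    simp [mu]
  mul_mem' {a b} ha hb y := by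
    show p (a.left y * b.left (a.right⁻¹ • y)) = _
    rw [map_mul, ha, hb, SemidirectProduct.mul_right, mu_mul]
  inv_mem' {a} ha y := by
    show p ((a.left (a.right⁻¹⁻¹ • y))⁻¹) = mu U a.right⁻¹ y
    rw [inv_inv, map_inv, ha]
    simp only [mu, inv_smul_smul, inv_inv]
    group

variable {U p}

/-- the projection -/
noncomputable def proj : ↥(Wsub U p) →* G := SemidirectProduct.rightHom.comp (Wsub U p).subtype

variable (hr : p.range = U)
include hr

theorem proj_surjective : Function.Surjective (proj (U := U) (p := p)) := by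
  intro g
  have h : ∀ y, ∃ a, p a = mu U g y := fun y => hr.ge (mu_mem U g y)
  choose F hF using h
  exact ⟨⟨⟨F, g⟩, hF⟩, rfl⟩

variable [Fintype (G ⧸ U)] (hc : p.ker ≤ Subgroup.center P)

omit hr in
/-- the coordinates of a kernel element, in the centre -/
noncomputable def ker0 : ↥(proj (U := U) (p := p)).ker →* (G ⧸ U → ↥(Subgroup.center P)) where
  toFun w := fun y => ⟨(w.1.1).left y, hc (by
    have h : (w.1.1).right = 1 := w.2
    rw [MonoidHom.mem_ker, w.1.2 y, h]
    simp [mu])⟩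
  map_one' := rfl
  map_mul' v w := funext fun y => Subtype.ext (by
    have h : (v.1.1).right = 1 := v.2
    have e : ((v.1.1).right)⁻¹ • y = y := by rw [h, inv_one, one_smul]
    show (v.1.1).left y * (w.1.1).left ((v.1.1).right⁻¹ • y) = _
    rw [e]
    rfl)

omit hr in
/-- the product of the coordinates -/
noncomputable def tr : ↥(proj (U := U) (p := p)).ker →* ↥(Subgroup.center P) :=
  { toFun := fun w => ∏ y, ker0 hc w y
    map_one' := by simp
    map_mul' := fun v w => by rw [map_mul]; exact Finset.prod_mul_distrib }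

omit hr in
theorem tr_mem (w : ↥(proj (U := U) (p := p)).ker) : (tr hc w : P) ∈ p.ker := by
  have key : ∀ f : G ⧸ U → ↥(Subgroup.center P), (∀ y, (f y : P) ∈ p.ker) → ((∏ y, f y : ↥(Subgroup.center P)) : P) ∈ p.ker := by
    intro f hf
    exact Finset.prod_induction f (fun a => (a : P) ∈ p.ker) (fun a b ha hb => mul_mem ha hb) (one_mem _)
      fun y _ => hf y
  refine key _ fun y => ?_
  have h : (w.1.1).right = 1 := w.2
  show p ((w.1.1).left y) = 1
  rw [w.1.2 y, h]
  simp [mu]

omit hr in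
theorem tr_conj (g : ↥(Wsub U p)) (w : ↥(proj (U := U) (p := p)).ker) :
    tr hc ⟨g * w.1 * g⁻¹, (MonoidHom.normal_ker _).conj_mem _ w.2 g⟩ = tr hc w := by
  show ∏ y, ker0 hc _ y = ∏ y, ker0 hc w y
  refine Fintype.prod_equiv (MulAction.toPerm (g.1.right)⁻¹) _ _ fun y => Subtype.ext ?_
  have h : (w.1.1).right = 1 := w.2
  have hcen : (w.1.1).left ((g.1.right)⁻¹ • y) ∈ Subgroup.center P := (ker0 hc w _).2
  show g.1.left y * (w.1.1).left ((g.1.right)⁻¹ • y) *
    (g.1.left (g.1.right⁻¹⁻¹ • ((g.1.right * (w.1.1).right)⁻¹ • y)))⁻¹ = (w.1.1).left ((g.1.right)⁻¹ • y)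
  rw [h, mul_one, inv_inv, smul_inv_smul, Subgroup.mem_center_iff.1 hcen (g.1.left y), mul_inv_cancel_right]

omit hr in
/-- the elements killed -/
noncomputable def Z0 : Subgroup ↥(Wsub U p) := (tr (U := U) (p := p) hc).ker.map (Subgroup.subtype _)

instance : (Z0 (U := U) (p := p) hc).Normal := ⟨by
  rintro _ ⟨w, hw, rfl⟩ g
  exact ⟨⟨g * w.1 * g⁻¹, (MonoidHom.normal_ker _).conj_mem _ w.2 g⟩, (tr_conj hc g w).trans hw, rfl⟩⟩

omit hr in
theorem Z0_le : Z0 (U := U) (p := p) hc ≤ (proj (U := U) (p := p)).ker := by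
  rintro _ ⟨w, -, rfl⟩
  exact w.2

omit hr in
/-- the transferred extension -/
noncomputable def ext : ↥(Wsub U p) ⧸ Z0 (U := U) (p := p) hc →* G :=
  QuotientGroup.lift _ (proj (U := U) (p := p)) (Z0_le hc)

/-- invariance of the commutator of commuting elements under fusion -/
def Stable (p : P →* G) : Prop :=
  ∀ (g : G) (A B A' B' : P), Commute (p A) (p B) → p A' = g⁻¹ * p A * g → p B' = g⁻¹ * p B * g →
    ⁅A', B'⁆ = ⁅A, B⁆

variable (hst : Stable p) (hexp : ∀ z ∈ p.ker, z * z = 1) (hodd : Odd (Fintype.card (G ⧸ U)))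
variable {A0 B0 : P} (ha : p A0 * p A0 = 1) (hab : Commute (p A0) (p B0))

section Commutator

omit hr

variable {b : G} {B : ↥(Wsub U p)}

theorem left_pow_succ (i : ℕ) (y : G ⧸ U) :
    (B ^ (i + 1)).1.left y = B.1.left y * (B ^ i).1.left ((B.1.right)⁻¹ • y) := by
  rw [pow_succ']; rfl

theorem left_pow_add (i j : ℕ) (y : G ⧸ U) :
    (B ^ (i + j)).1.left y = (B ^ i).1.left y * (B ^ j).1.left ((B.1.right ^ i)⁻¹ • y) := by
  rw [pow_add]
  show _ * (B ^ j).1.left (((B ^ i).1.right)⁻¹ • y) = _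
  rw [show (B ^ i).1.right = B.1.right ^ i from map_pow (proj (U := U) (p := p)) B i]

end Commutator

include hc hst hexp hodd ha hab

omit hodd in
/-- lifts over the points fixed by the involution, equivariant up to the commutator -/
theorem exists_equivariant (B : ↥(Wsub U p)) (hB : B.1.right = p B0) [Finite G] :
    ∃ F : G ⧸ U → P, ∀ y, p A0 • y = y → p (F y) = mu U (p A0) y ∧
      F y = ⁅A0, B0⁆ * (B.1.left y * F ((p B0)⁻¹ • y) * (B.1.left y)⁻¹) := by
  classical
  set a := p A0 with hadef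
  set b := p B0 with hbdef
  set c := ⁅A0, B0⁆ with hcdef
  have hck : c ∈ p.ker := by
    rw [MonoidHom.mem_ker, hcdef, map_commutatorElement, commutatorElement_eq_one_iff_mul_comm]; exact hab.eq
  have hcc : ∀ x : P, Commute c x := fun x => (Subgroup.mem_center_iff.1 (hc hck) x).symm
  have hc2 : c * c = 1 := hexp c hck
  have hBpow : ∀ i, (B ^ i).1.right = b ^ i := fun i => by
    rw [← hB]; exact map_pow (proj (U := U) (p := p)) B i
  have hfixb : ∀ (i : ℕ) (y : G ⧸ U), a • y = y → a • (b ^ i • y) = b ^ i • y := fun i y hy => by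
    rw [← mul_smul, (hab.pow_right i).eq, mul_smul, hy]
  -- representatives of the orbits
  let S : Setoid (G ⧸ U) := MulAction.orbitRel ↥(Subgroup.zpowers b) (G ⧸ U)
  let rep : G ⧸ U → G ⧸ U := fun y => (Quotient.mk S y).out
  have hrep : ∀ y, ∃ i : ℕ, y = b ^ i • rep y := by
    intro y
    have h : S.r (rep y) y := Quotient.exact ((Quotient.mk S y).out_eq)
    obtain ⟨⟨g, hg⟩, e⟩ := MulAction.orbitRel_apply.1 (Setoid.symm h)
    obtain ⟨i, -, rfl⟩ := (mem_zpowers_iff_mem_range_orderOf.1 hg) |> fun h' =>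
      (by simpa [Finset.mem_image, Finset.mem_range, and_comm] using h' :
        ∃ i, i < orderOf b ∧ b ^ i = g)
    exact ⟨i, e.symm⟩
  choose idx hidx using hrep
  have hrep' : ∀ y, rep (b⁻¹ • y) = rep y := fun y => by
    refine congrArg Quotient.out (Quotient.sound ?_)
    exact MulAction.orbitRel_apply.2 ⟨⟨b⁻¹, inv_mem (Subgroup.mem_zpowers b)⟩, rfl⟩
  have hback : ∀ y, (b ^ idx y)⁻¹ • y = rep y := fun y => inv_smul_eq_iff.2 (hidx y)
  have hfr : ∀ y, a • y = y → a • rep y = rep y := fun y hy => by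
    rw [← hback y, ← mul_smul, ((hab.pow_right (idx y)).inv_right).eq, mul_smul, hy]
  have hlift : ∀ r, ∃ e, p e = mu U a r := fun r => hr.ge (mu_mem U a r)
  choose e he using hlift
  -- the value from any exponent
  let val : ℕ → G ⧸ U → P := fun i r =>
    c ^ i * ((B ^ i).1.left (b ^ i • r) * e r * ((B ^ i).1.left (b ^ i • r))⁻¹)
  have hloop : ∀ (d : ℕ) (r : G ⧸ U), a • r = r → b ^ d • r = r →
      (B ^ d).1.left r * e r * ((B ^ d).1.left r)⁻¹ = c ^ d * e r := by
    intro d r har hbr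
    set K := (B ^ d).1.left r
    have hK : p K = (sec U r)⁻¹ * p (B0 ^ d) * sec U r := by
      rw [(B ^ d).2 r, hBpow, mu_fixed U hbr, map_pow]
    have hE : p (e r) = (sec U r)⁻¹ * p A0 * sec U r := by rw [he, mu_fixed U har]
    have h1 := hst (sec U r) A0 (B0 ^ d) (e r) K (by rw [map_pow]; exact hab.pow_right d) hE hK
    have h2 : ∀ d : ℕ, ⁅A0, B0 ^ d⁆ = c ^ d := by
      intro d
      induction d with
      | zero => simp
      | succ d ih =>
        calc ⁅A0, B0 ^ (d + 1)⁆ = ⁅A0, B0 ^ d⁆ * (B0 ^ d * c * (B0 ^ d)⁻¹) := by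
              rw [hcdef, commutatorElement_def, commutatorElement_def, commutatorElement_def, pow_succ]; group
          _ = _ := by rw [← (hcc (B0 ^ d)).eq, mul_inv_cancel_right, ih, pow_succ]
    rw [h2] at h1
    calc K * e r * K⁻¹ = ⁅e r, K⁆⁻¹ * e r := by rw [commutatorElement_def]; group
      _ = _ := by
        rw [h1, inv_eq_of_mul_eq_one_right (a := c ^ d) (b := c ^ d) (by rw [← (Commute.refl c).mul_pow, hc2, one_pow])]
  have hwell : ∀ (i d : ℕ) (r : G ⧸ U), a • r = r → b ^ d • r = r → val (i + d) r = val i r := by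
    intro i d r har hbr
    simp only [val]
    have e1 : b ^ (i + d) • r = b ^ i • r := by rw [pow_add, mul_smul, hbr]
    rw [e1, left_pow_add, hB, inv_smul_smul]
    set Ki := (B ^ i).1.left (b ^ i • r)
    set Kd := (B ^ d).1.left r
    calc c ^ (i + d) * (Ki * Kd * e r * (Ki * Kd)⁻¹) = c ^ (i + d) * (Ki * (Kd * e r * Kd⁻¹) * Ki⁻¹) := by group
      _ = c ^ (i + d) * c ^ d * (Ki * e r * Ki⁻¹) := by
        rw [hloop d r har hbr, ← mul_assoc Ki, ← ((hcc Ki).pow_left d).eq]; group
      _ = _ := by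
        rw [pow_add, mul_assoc (c ^ i), ← (Commute.refl c).mul_pow, hc2, one_pow, mul_one]
  have hsame : ∀ (i j : ℕ) (r : G ⧸ U), a • r = r → b ^ i • r = b ^ j • r → val i r = val j r := by
    intro i j r har h
    rcases le_total i j with hij | hij
    · obtain ⟨d, rfl⟩ := Nat.exists_eq_add_of_le hij
      rw [pow_add, mul_smul, smul_left_cancel_iff] at h
      exact (hwell i d r har h.symm).symm
    · obtain ⟨d, rfl⟩ := Nat.exists_eq_add_of_le hij
      rw [pow_add, mul_smul, smul_left_cancel_iff] at h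
      exact hwell j d r har h
  refine ⟨fun y => val (idx y) (rep y), fun y hy => ⟨?_, ?_⟩⟩
  · have hr' := hfr y hy
    simp only [val]
    rw [← hidx y, map_mul, map_mul, map_mul, map_inv, map_pow, MonoidHom.mem_ker.1 hck, one_pow, one_mul, he,
      (B ^ idx y).2 y, hBpow]
    have e2 : (b ^ idx y)⁻¹ • y = rep y := hback y
    rw [mu, e2, mu_fixed U hr', mu_fixed U hy]
    have := (hab.pow_right (idx y)).eq
    calc (sec U y)⁻¹ * b ^ idx y * sec U (rep y) * ((sec U (rep y))⁻¹ * a * sec U (rep y)) *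
          ((sec U y)⁻¹ * b ^ idx y * sec U (rep y))⁻¹
        = (sec U y)⁻¹ * (b ^ idx y * a) * (b ^ idx y)⁻¹ * sec U y := by group
      _ = _ := by rw [← this]; group
  · have hy' : a • (b⁻¹ • y) = b⁻¹ • y := by rw [← mul_smul, hab.inv_right.eq, mul_smul, hy]
    have hr' := hfr y hy
    set j := idx (b⁻¹ • y)
    have hj : b ^ (j + 1) • rep y = y := by
      rw [pow_succ', mul_smul, ← hrep' y, ← hidx, smul_inv_smul]
    have e1 := hsame (idx y) (j + 1) (rep y) hr' (by rw [hj, ← hidx])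
    show val (idx y) (rep y) = c * (_ * val j (rep (b⁻¹ • y)) * _)
    rw [e1, hrep']
    simp only [val]
    have e3 : b ^ j • rep y = b⁻¹ • y := by
      rw [← hrep' y]; exact (hidx _).symm
    rw [hj, left_pow_succ, hB, e3]
    set Bl := B.1.left y
    set K := (B ^ j).1.left (b⁻¹ • y)
    calc c ^ (j + 1) * (Bl * K * e (rep y) * (Bl * K)⁻¹)
        = c * c ^ j * Bl * (K * e (rep y) * K⁻¹) * Bl⁻¹ := by rw [pow_succ']; group
      _ = _ := by rw [mul_assoc c (c ^ j) Bl, ((hcc Bl).pow_left j).eq]; group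

/-- the commutator of the pair is a commutator in the extension -/
theorem exists_commutator [Finite G] : ∃ x y : ↥(Wsub U p), ∃ h : ⁅x, y⁆ ∈ (proj (U := U) (p := p)).ker,
    (tr hc ⟨⁅x, y⁆, h⟩ : P) = ⁅A0, B0⁆ := by
  classical
  set a := p A0 with hadef
  set b := p B0 with hbdef
  set c := ⁅A0, B0⁆ with hcdef
  have hck : c ∈ p.ker := by
    rw [MonoidHom.mem_ker, hcdef, map_commutatorElement, commutatorElement_eq_one_iff_mul_comm]; exact hab.eq
  obtain ⟨B, hB0⟩ := proj_surjective hr b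
  have hB : B.1.right = b := hB0
  obtain ⟨F0, hF0⟩ := exists_equivariant hr hc hst hexp ha hab B hB
  obtain ⟨A1, hA1⟩ := proj_surjective hr a
  have hA1' : A1.1.right = a := hA1
  let F : G ⧸ U → P := fun y => if a • y = y then F0 y else A1.1.left y
  have hF : ∀ y, p (F y) = mu U a y := fun y => by
    simp only [F]; split
    next h => exact (hF0 y h).1
    next => rw [A1.2 y, hA1']
  let A : ↥(Wsub U p) := ⟨⟨F, a⟩, hF⟩
  have hmem : ⁅A, B⁆ ∈ (proj (U := U) (p := p)).ker := by
    rw [MonoidHom.mem_ker, map_commutatorElement, commutatorElement_eq_one_iff_mul_comm]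
    show a * B.1.right = B.1.right * a
    rw [hB]; exact hab.eq
  refine ⟨A, B, hmem, ?_⟩
  have hinv : a⁻¹ = a := inv_eq_of_mul_eq_one_right ha
  have haa : ∀ y : G ⧸ U, a • a • y = y := fun y => by rw [← mul_smul, ha, one_smul]
  have hbaa : ∀ y : G ⧸ U, b⁻¹ • a • y = a • b⁻¹ • y := fun y => by
    rw [← mul_smul, ← mul_smul, hab.inv_right.eq]
  set K := B.1.left
  let om : G ⧸ U → P := fun y => (ker0 hc ⟨⁅A, B⁆, hmem⟩ y).1
  have homC : ∀ y x, Commute (om y) x := fun y x =>
    (Subgroup.mem_center_iff.1 (ker0 hc ⟨⁅A, B⁆, hmem⟩ y).2 x).symm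
  have hAB : ∀ y, F y * K (a • y) = om y * (K y * F (b⁻¹ • y)) := by
    intro y
    have e : A * B = ⁅A, B⁆ * (B * A) := by rw [commutatorElement_def]; group
    have e' := congrArg (fun w : ↥(Wsub U p) => w.1.left y) e
    have h1 : (⁅A, B⁆ : ↥(Wsub U p)).1.right = 1 := hmem
    change F y * K (a⁻¹ • y) = (⁅A, B⁆ : ↥(Wsub U p)).1.left y *
      (K (((⁅A, B⁆ : ↥(Wsub U p)).1.right)⁻¹ • y) *
        F ((B.1.right)⁻¹ • ((⁅A, B⁆ : ↥(Wsub U p)).1.right)⁻¹ • y)) at e'
    rw [hinv, h1, inv_one, one_smul, hB] at e'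
    exact e'
  let zz : G ⧸ U → P := fun y => F y * F (a • y)
  have hzk : ∀ y, zz y ∈ p.ker := fun y => by
    rw [MonoidHom.mem_ker, map_mul, hF, hF]
    have := mu_mul U a a y
    rw [hinv] at this
    rw [← this, ha]; simp [mu]
  have hzc : ∀ y x, Commute (zz y) x := fun y x => (Subgroup.mem_center_iff.1 (hc (hzk y)) x).symm
  have hpair : ∀ y, om y * om (a • y) = zz y * zz (b⁻¹ • y) := by
    intro y
    have e1 := hAB y
    have e2 := hAB (a • y)
    rw [haa, hbaa] at e2
    have z2 : zz (b⁻¹ • y) * zz (b⁻¹ • y) = 1 := hexp _ (hzk _)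
    have e3 : F y * F (a • y) * K y = om (a • y) * (om y * (K y * (F (b⁻¹ • y) * F (a • b⁻¹ • y)))) := by
      calc F y * F (a • y) * K y = F y * (F (a • y) * K y) := mul_assoc _ _ _
        _ = om (a • y) * (F y * K (a • y) * F (a • b⁻¹ • y)) := by
          rw [e2, ← mul_assoc, ← (homC (a • y) (F y)).eq]; group
        _ = _ := by rw [e1]; group
    change zz y * K y = om (a • y) * (om y * (K y * zz (b⁻¹ • y))) at e3
    rw [← (hzc (b⁻¹ • y) (K y)).eq, ← mul_assoc (om y), ← mul_assoc (om (a • y))] at e3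
    have e4 := mul_right_cancel e3
    rw [(homC y (om (a • y))).eq]
    calc om (a • y) * om y = om (a • y) * om y * (zz (b⁻¹ • y) * zz (b⁻¹ • y)) := by rw [z2, mul_one]
      _ = _ := by rw [e4]; group
  have hfix : ∀ y, a • y = y → om y = c := by
    intro y hy
    have e1 := hAB y
    have h2 : F (b⁻¹ • y) = F0 (b⁻¹ • y) := if_pos (by rw [← hbaa, hy])
    have h3 : F y = F0 y := if_pos hy
    rw [hy, h2, h3, (hF0 y hy).2] at e1
    change c * (K y * F0 (b⁻¹ • y) * (K y)⁻¹) * K y = _ at e1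
    rw [mul_assoc c, inv_mul_cancel_right] at e1
    exact (mul_right_cancel e1).symm
  -- the product over all cosets
  show ((∏ y, ker0 hc ⟨⁅A, B⁆, hmem⟩ y : ↥(Subgroup.center P)) : P) = c
  set Ω : G ⧸ U → ↥(Subgroup.center P) := ker0 hc ⟨⁅A, B⁆, hmem⟩
  let C : ↥(Subgroup.center P) := ⟨c, hc hck⟩
  let Z : G ⧸ U → ↥(Subgroup.center P) := fun y => ⟨zz y, hc (hzk y)⟩
  suffices ∏ y, Ω y = C from congrArg Subtype.val this
  let S1 := Finset.univ.filter fun y : G ⧸ U => a • y = y
  let S2 := Finset.univ.filter fun y : G ⧸ U => ¬ a • y = y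
  let o := Fintype.equivFin (G ⧸ U)
  let R := Finset.univ.filter fun y : G ⧸ U => o y < o (a • y)
  let R' := Finset.univ.filter fun y : G ⧸ U => o (a • y) < o y
  have hR' : R' = R.image (a • ·) := by
    ext y
    simp only [R, R', Finset.mem_filter, Finset.mem_univ, true_and, Finset.mem_image]
    exact ⟨fun h => ⟨a • y, by rwa [haa], haa y⟩, fun ⟨x, hx, e⟩ => by rw [← e, haa]; exact hx⟩
  have hdis : Disjoint R R' := Finset.disjoint_filter.2 fun y _ h h' => lt_asymm h h'
  have hS2 : S2 = R ∪ R' := by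
    ext y
    simp only [S2, R, R', Finset.mem_filter, Finset.mem_univ, true_and, Finset.mem_union]
    constructor
    · intro h
      exact lt_or_gt_of_ne fun e => h (o.injective e).symm
    · rintro (h | h) e <;> rw [e] at h <;> exact lt_irrefl _ h
  have hinjA : Set.InjOn (a • · : G ⧸ U → G ⧸ U) R := fun x _ y _ h => smul_left_cancel a h
  have hsplit : ∀ f : G ⧸ U → ↥(Subgroup.center P), ∏ y ∈ S2, f y = ∏ y ∈ R, f y * f (a • y) := by
    intro f
    rw [hS2, Finset.prod_union hdis, hR', Finset.prod_image hinjA, Finset.prod_mul_distrib]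
  let ρ : G ⧸ U → G ⧸ U := fun y => if o (b⁻¹ • y) < o (a • b⁻¹ • y) then b⁻¹ • y else a • b⁻¹ • y
  have hZa : ∀ y, Z (a • y) = Z y := fun y => Subtype.ext (by
    show F (a • y) * F (a • a • y) = F y * F (a • y)
    rw [haa]
    calc F (a • y) * F y = (F y)⁻¹ * (F y * F (a • y)) * F y := by group
      _ = _ := by rw [mul_assoc, (hzc y (F y)).eq, inv_mul_cancel_left])
  have hρmem : ∀ y ∈ R, ρ y ∈ R := by
    intro y hy
    simp only [R, Finset.mem_filter, Finset.mem_univ, true_and] at hy ⊢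
    simp only [ρ]
    split
    · assumption
    next h =>
      rw [haa]
      refine lt_of_le_of_ne (not_lt.1 h) fun e => ?_
      have e' := o.injective e
      rw [← hbaa] at e'
      exact lt_irrefl _ (by rwa [smul_left_cancel _ e'] at hy)
  have hρinj : Set.InjOn ρ R := by
    intro x hx y hy h
    simp only [R, Finset.coe_filter, Finset.mem_univ, true_and, Set.mem_setOf_eq] at hx hy
    simp only [ρ, ← hbaa] at h
    split at h <;> split at h <;> have h' := smul_left_cancel _ h
    · exact h'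
    · exfalso; rw [h', haa] at hx; exact lt_asymm hx hy
    · exfalso; rw [← h', haa] at hy; exact lt_asymm hx hy
    · exact smul_left_cancel _ h'
  have hρim : R.image ρ = R := Finset.eq_of_subset_of_card_le (Finset.image_subset_iff.2 hρmem)
    (by rw [Finset.card_image_of_injOn hρinj])
  have hmoved : ∏ y ∈ S2, Ω y = 1 := by
    rw [hsplit, Finset.prod_congr rfl fun y _ => (show Ω y * Ω (a • y) = Z y * Z (b⁻¹ • y) from Subtype.ext (hpair y)),
      Finset.prod_mul_distrib]
    have : ∏ y ∈ R, Z (b⁻¹ • y) = ∏ y ∈ R, Z y := by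
      conv_rhs => rw [← hρim, Finset.prod_image hρinj]
      refine Finset.prod_congr rfl fun y _ => ?_
      simp only [ρ]; split
      · rfl
      · rw [hZa]
    rw [this, ← Finset.prod_mul_distrib]
    exact Finset.prod_eq_one fun y _ => Subtype.ext (hexp _ (hzk y))
  have hfixed : ∏ y ∈ S1, Ω y = C := by
    rw [Finset.prod_congr rfl fun y hy => (show Ω y = C from Subtype.ext (hfix y (Finset.mem_filter.1 hy).2)),
      Finset.prod_const]
    obtain ⟨k, hk⟩ := hodd
    have h1 : S1.card + S2.card = 2 * k + 1 := by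
      rw [Finset.card_filter_add_card_filter_not, Finset.card_univ, hk]
    have h2 : S2.card = R.card + R.card := by
      rw [hS2, Finset.card_union_of_disjoint hdis, hR', Finset.card_image_of_injOn hinjA]
    have h3 : Odd S1.card := ⟨k - R.card, by omega⟩
    obtain ⟨m, hm⟩ := h3
    rw [hm, pow_succ, pow_mul, pow_two, show C * C = 1 from Subtype.ext (hexp c hck), one_pow, one_mul]
  rw [← Finset.prod_filter_mul_prod_filter_not Finset.univ (fun y : G ⧸ U => a • y = y)]
  show (∏ y ∈ S1, Ω y) * ∏ y ∈ S2, Ω y = C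
  rw [hfixed, hmoved, mul_one]

omit ha hab in
/-- the extension of the whole group -/
theorem exists_stem [Finite G] [Finite P] (hgen : ∀ z ∈ p.ker, z ∈ Subgroup.closure
    {d | ∃ A B : P, p A * p A = 1 ∧ Commute (p A) (p B) ∧ d = ⁅A, B⁆}) :
    ∃ (σ : ↥(Wsub U p) ⧸ Z0 (U := U) (p := p) hc →* G), Function.Surjective σ ∧
      σ.ker ≤ Subgroup.center _ ∧ σ.ker ≤ commutator _ ∧ Nonempty (↥p.ker ≃* ↥σ.ker) := by
  classical
  let mk := QuotientGroup.mk' (Z0 (U := U) (p := p) hc)
  refine ⟨ext hc, ?_, ?_, ?_, ?_⟩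
  · intro g
    obtain ⟨w, hw⟩ := proj_surjective hr g
    exact ⟨mk w, hw⟩
  · intro x hx
    obtain ⟨w, rfl⟩ := QuotientGroup.mk'_surjective _ x
    have hw : w ∈ (proj (U := U) (p := p)).ker := hx
    refine Subgroup.mem_center_iff.2 fun y => ?_
    obtain ⟨g, rfl⟩ := QuotientGroup.mk'_surjective _ y
    rw [← map_mul, ← map_mul]
    refine (QuotientGroup.mk'_eq_mk' _).2 ⟨(g * w)⁻¹ * (w * g), ?_, by group⟩
    have hd : g⁻¹ * w * g ∈ (proj (U := U) (p := p)).ker := by
      simpa using (MonoidHom.normal_ker _).conj_mem _ hw g⁻¹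
    refine ⟨(⟨w, hw⟩ : ↥(proj (U := U) (p := p)).ker)⁻¹ * ⟨g⁻¹ * w * g, hd⟩, ?_, by
      show w⁻¹ * (g⁻¹ * w * g) = (g * w)⁻¹ * (w * g)
      group⟩
    show tr hc _ = 1
    rw [map_mul, map_inv]
    have e := tr_conj hc g⁻¹ ⟨w, hw⟩
    simp only [inv_inv] at e
    rw [e, inv_mul_cancel]
  · intro x hx
    obtain ⟨w, rfl⟩ := QuotientGroup.mk'_surjective _ x
    have hw : w ∈ (proj (U := U) (p := p)).ker := hx
    let W0 : Subgroup ↥(proj (U := U) (p := p)).ker :=
      (commutator (↥(Wsub U p) ⧸ Z0 (U := U) (p := p) hc)).comap (mk.comp (Subgroup.subtype _))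
    have hker : (tr (U := U) (p := p) hc).ker ≤ W0 := fun v hv => by
      show mk v.1 ∈ commutator (↥(Wsub U p) ⧸ Z0 (U := U) (p := p) hc)
      rw [show mk v.1 = 1 from (QuotientGroup.eq_one_iff _).2 ⟨v, hv, rfl⟩]
      exact one_mem _
    have hle : Subgroup.closure {d | ∃ A B : P, p A * p A = 1 ∧ Commute (p A) (p B) ∧ d = ⁅A, B⁆} ≤
        (W0.map (tr hc)).map (Subgroup.center P).subtype := (Subgroup.closure_le _).2 (by
      rintro _ ⟨A, B, hA, hAB, rfl⟩
      obtain ⟨x, y, h, e⟩ := exists_commutator hr hc hst hexp hodd hA hAB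
      exact ⟨_, ⟨⟨⁅x, y⁆, h⟩, by
        show mk ⁅x, y⁆ ∈ commutator (↥(Wsub U p) ⧸ Z0 (U := U) (p := p) hc)
        rw [map_commutatorElement]
        exact Subgroup.commutator_mem_commutator (Subgroup.mem_top _) (Subgroup.mem_top _), rfl⟩, e⟩)
    obtain ⟨d, ⟨v, hv, hvd⟩, ed⟩ := hle (hgen _ (tr_mem hc ⟨w, hw⟩))
    have e2 : tr hc v = tr hc ⟨w, hw⟩ := hvd.trans (Subtype.ext ed)
    have h3 : v⁻¹ * ⟨w, hw⟩ ∈ (tr (U := U) (p := p) hc).ker := by
      rw [MonoidHom.mem_ker, map_mul, map_inv, e2, inv_mul_cancel]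
    have h4 := W0.mul_mem hv (hker h3)
    rw [mul_inv_cancel_left] at h4
    exact h4
  · haveI : p.ker.Normal := inferInstance
    let y0 : G ⧸ U := QuotientGroup.mk 1
    let put : ↥p.ker → ↥(proj (U := U) (p := p)).ker := fun z =>
      ⟨⟨⟨Function.update 1 y0 z.1, 1⟩, fun y => by
        by_cases h : y = y0
        · subst h; simp [MonoidHom.mem_ker.1 z.2, mu]
        · simp [h, mu]⟩, rfl⟩
    have hput : ∀ z, (tr hc (put z) : P) = z.1 := by
      intro z
      have h1 : tr hc (put z) = ker0 hc (put z) y0 := by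
        refine Finset.prod_eq_single (s := Finset.univ) y0 (fun y _ hy => Subtype.ext ?_) (by simp)
        show Function.update (1 : G ⧸ U → P) y0 z.1 y = 1
        simp [hy]
      rw [h1]
      show Function.update (1 : G ⧸ U → P) y0 z.1 y0 = z.1
      simp
    let f : ↥p.ker →* ↥(ext (U := U) (p := p) hc).ker :=
      { toFun := fun z => ⟨mk (put z).1, (put z).2⟩
        map_one' := Subtype.ext ((QuotientGroup.eq_one_iff _).2 ⟨put 1, Subtype.ext (hput 1), rfl⟩)
        map_mul' := fun u v => Subtype.ext (by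
          show mk (put (u * v)).1 = mk (put u).1 * mk (put v).1
          rw [← map_mul]
          refine (QuotientGroup.mk'_eq_mk' _).2 ⟨_, ⟨(put (u * v))⁻¹ * (put u * put v), ?_, rfl⟩, ?_⟩
          · refine Subtype.ext ?_
            rw [map_mul, map_inv, map_mul, Subgroup.coe_mul, Subgroup.coe_inv, Subgroup.coe_mul, hput, hput, hput]
            simp
          · simp [mul_assoc]) }
    refine ⟨MulEquiv.ofBijective f ⟨fun u v h => ?_, fun x => ?_⟩⟩
    · have h' : mk (put u).1 = mk (put v).1 := congrArg Subtype.val h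
      obtain ⟨d, ⟨d', hd', rfl⟩, e⟩ := (QuotientGroup.mk'_eq_mk' _).1 h'
      have e' : put u * d' = put v := Subtype.ext e
      refine Subtype.ext ?_
      rw [← hput u, ← hput v, ← e', map_mul, show tr hc d' = 1 from hd', mul_one]
    · obtain ⟨x, hx⟩ := x
      obtain ⟨w, rfl⟩ := QuotientGroup.mk'_surjective _ x
      refine ⟨⟨(tr hc ⟨w, hx⟩ : P), tr_mem hc _⟩, Subtype.ext ?_⟩
      refine (QuotientGroup.mk'_eq_mk' _).2 ⟨_, ⟨(put ⟨_, tr_mem hc ⟨w, hx⟩⟩)⁻¹ * ⟨w, hx⟩, ?_, rfl⟩, by simp⟩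
      refine Subtype.ext ?_
      rw [map_mul, map_inv, Subgroup.coe_mul, Subgroup.coe_inv, hput]
      simp

end CfsgLib.Lie.MultExc.OddTransfer
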