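import Mathlib.Data.Matrix.Mul
import Mathlib.Data.ZMod.Basic
import Mathlib.Algebra.BigOperators.Fin
import Mathlib.Tactic.Ring
import Mathlib.Data.List.GetD

/-!
Square matrices over three elements with rows packed in numbers, and a quick check that two products agree.
-/

set_option autoImplicit false

namespace CfsgLib.Lie.MultExc.PackMat

open Finset

/-- A field of a packed row. -/
def fld (v j : ℕ) : ℕ := (v >>> (8 * j)) &&& 255

theorem fld_eq (v j : ℕ) : fld v j = v / 256 ^ j % 256 := by
  rw [fld, Nat.shiftRight_eq_div_pow, show (255 : ℕ) = 2 ^ 8 - 1 from rfl, Nat.and_two_pow_sub_one_eq_mod, pow_mul]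
  norm_num

/-- The combination of rows with the fields of a number as coefficients. -/
def comb (a : ℕ) : List ℕ → ℕ → ℕ
  | [], _ => 0
  | r :: R, k => fld a k * r + comb a R (k + 1)

theorem comb_eq (a : ℕ) : ∀ (R : List ℕ) (k : ℕ),
    comb a R k = ∑ i ∈ range R.length, fld a (k + i) * R.getD i 0
  | [], k => by simp [comb]
  | r :: R, k => by
    rw [comb, comb_eq a R (k + 1), List.length_cons, sum_range_succ', Nat.add_comm]
    simp [Nat.add_assoc, Nat.add_comm 1]

theorem sum_fields : ∀ (n v : ℕ), v < 256 ^ n → ∑ j ∈ range n, fld v j * 256 ^ j = v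
  | 0, v, h => by simp at h; simp [h]
  | n + 1, v, h => by
    rw [sum_range_succ']
    have ih := sum_fields n (v / 256) (by rw [Nat.div_lt_iff_lt_mul (by norm_num)]; rwa [← pow_succ])
    simp only [fld_eq] at ih ⊢
    rw [show ∑ j ∈ range n, v / 256 ^ (j + 1) % 256 * 256 ^ (j + 1) = 256 * (v / 256) by
      conv_rhs => rw [← ih, mul_sum]
      exact sum_congr rfl fun j _ => by rw [pow_succ', Nat.div_div_eq_div_mul]; ring]
    simp [Nat.div_add_mod]

theorem fld_sum : ∀ (n : ℕ) (f : ℕ → ℕ), (∀ j < n, f j < 256) → ∀ j < n,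
    fld (∑ i ∈ range n, f i * 256 ^ i) j = f j
  | 0, _, _, j, hj => absurd hj (Nat.not_lt_zero _)
  | n + 1, f, h, j, hj => by
    have e : ∑ i ∈ range (n + 1), f i * 256 ^ i = f 0 + 256 * ∑ i ∈ range n, f (i + 1) * 256 ^ i := by
      rw [sum_range_succ', mul_sum, Nat.add_comm]
      simp only [pow_zero, mul_one, Nat.add_left_cancel_iff]
      exact sum_congr rfl fun i _ => by rw [pow_succ']; ring
    cases j with
    | zero => rw [fld_eq, e, pow_zero, Nat.div_one, Nat.add_mul_mod_self_left, Nat.mod_eq_of_lt (h 0 hj)]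
    | succ j =>
      have ih := fld_sum n (fun i => f (i + 1)) (fun i hi => h (i + 1) (Nat.succ_lt_succ hi)) j (Nat.lt_of_succ_lt_succ hj)
      rw [fld_eq] at ih ⊢
      rw [e, pow_succ', ← Nat.div_div_eq_div_mul, Nat.add_mul_div_left _ _ (by norm_num),
        Nat.div_eq_of_lt (h 0 (Nat.succ_pos _)), Nat.zero_add, ih]

/-- A packed row with entries zero, one and two. -/
def rowOK (n v : ℕ) : Bool := Nat.blt v (256 ^ n) && (List.range n).all fun j => Nat.blt (fld v j) 3

/-- A packed square matrix. -/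
def matOK (n : ℕ) (R : List ℕ) : Bool := Nat.beq R.length n && R.all (rowOK n)

/-- The matrix over three elements. -/
def toM (n : ℕ) (R : List ℕ) : Matrix (Fin n) (Fin n) (ZMod 3) :=
  Matrix.of fun i j => ((fld (R.getD i.1 0) j.1 : ℕ) : ZMod 3)

theorem fld_getD {n : ℕ} {R : List ℕ} (h : matOK n R = true) {k : ℕ} (hk : k < n) :
    R.getD k 0 < 256 ^ n ∧ ∀ j < n, fld (R.getD k 0) j < 3 := by
  simp only [matOK, Bool.and_eq_true] at h
  have hk' : k < R.length := by rw [Nat.eq_of_beq_eq_true h.1]; exact hk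
  have h2 := List.all_eq_true.1 h.2 _ (List.getElem_mem hk')
  rw [List.getD_eq_getElem _ _ hk']
  simp only [rowOK, Bool.and_eq_true, List.all_eq_true, List.mem_range] at h2
  exact ⟨Nat.le_of_ble_eq_true h2.1, fun j hj => Nat.le_of_ble_eq_true (h2.2 j hj)⟩

theorem comb_field {n : ℕ} (hn : n ≤ 63) {a : ℕ} {R : List ℕ} (ha : ∀ j < n, fld a j < 3) (h : matOK n R = true)
    (j : Fin n) : ((fld (comb a R 0) j.1 : ℕ) : ZMod 3) = ∑ k : Fin n, (fld a k.1 : ZMod 3) * toM n R k j := by
  have hlen : R.length = n := by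
    simp only [matOK, Bool.and_eq_true] at h
    exact Nat.eq_of_beq_eq_true h.1
  have e : comb a R 0 = ∑ i ∈ range n, (∑ k ∈ range n, fld a k * fld (R.getD k 0) i) * 256 ^ i := by
    rw [comb_eq, hlen]
    simp only [Nat.zero_add, sum_mul]
    rw [sum_comm]
    refine sum_congr rfl fun k hk => ?_
    simp only [mul_assoc, ← mul_sum]
    rw [sum_fields n _ (fld_getD h (mem_range.1 hk)).1]
  have hb : ∀ i < n, ∑ k ∈ range n, fld a k * fld (R.getD k 0) i < 256 := fun i hi =>
    lt_of_le_of_lt (sum_le_sum (g := fun _ => 4) fun k hk => Nat.mul_le_mul (Nat.le_of_lt_succ (ha k (mem_range.1 hk)))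
      (Nat.le_of_lt_succ ((fld_getD h (mem_range.1 hk)).2 i hi))) (by rw [sum_const, card_range, smul_eq_mul]; omega)
  rw [e, fld_sum n _ hb j.1 j.2, Nat.cast_sum, ← Fin.sum_univ_eq_sum_range]
  simp [toM, Nat.cast_mul]

/-- The products of two pairs of packed matrices agree modulo three. -/
def sameProd (n : ℕ) (A B C D : List ℕ) : Bool :=
  (List.range n).all fun i =>
    let u := comb (A.getD i 0) B 0
    let v := comb (C.getD i 0) D 0
    (List.range n).all fun j => Nat.beq (fld u j % 3) (fld v j % 3)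

theorem mul_eq_of_sameProd {n : ℕ} (hn : n ≤ 63) {A B C D : List ℕ} (hA : matOK n A = true) (hB : matOK n B = true)
    (hC : matOK n C = true) (hD : matOK n D = true) (h : sameProd n A B C D = true) :
    toM n A * toM n B = toM n C * toM n D := by
  simp only [sameProd, List.all_eq_true, List.mem_range] at h
  ext i j
  rw [Matrix.mul_apply, Matrix.mul_apply]
  have e1 := comb_field hn (fld_getD hA i.2).2 hB j
  have e2 := comb_field hn (fld_getD hC i.2).2 hD j
  have e3 := congrArg (fun x : ℕ => (x : ZMod 3)) (Nat.eq_of_beq_eq_true (h i.1 i.2 j.1 j.2))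
  simp only [ZMod.natCast_mod] at e3
  exact e1.symm.trans (e3.trans e2)

end CfsgLib.Lie.MultExc.PackMat
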