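import Mathlib

/-!
Power-commutator presentations with involutory generators modulo a central four-group.

Generators are numbered; for `a ≤ b` the product `φ b * φ a` is rewritten by the entry `E b a`: central
bits and a word in generators above `a`. Collection checked by computation gives equalities, automorphisms
and, by cyclic extensions from the last generator to the first, injectivity of the centre.
-/

set_option autoImplicit false

namespace CfsgLib.Lie.MultExc.Pc

open scoped commutatorElement

/-- central bits -/
abbrev Bits : Type := Bool × Bool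

/-- a word with central bits -/
abbrev Wd : Type := Bits × List ℕ

/-- sum of bits -/
def badd (p q : Bits) : Bits := (xor p.1 q.1, xor p.2 q.2)

/-- product of words -/
def wmul (u v : Wd) : Wd := (badd u.1 v.1, u.2 ++ v.2)

/-- empty word -/
def wone : Wd := ((false, false), [])

variable (E : ℕ → ℕ → Wd)

/-- the right hand side for `b, a` with `a ≤ b` -/
def R (b a : ℕ) : Wd := ((E b a).1, (E b a).2 ++ if a = b then [] else [a, b])

/-- one collection step -/
def step (M : ℕ) : List ℕ → Option Wd
  | [] => none
  | [_] => none
  | x :: y :: r =>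
    if y ≤ x then
      if M.testBit x && M.testBit y then some ((R E x y).1, (R E x y).2 ++ r) else none
    else (step M (y :: r)).map fun q => (q.1, x :: q.2)

/-- collection -/
def collect (M : ℕ) : ℕ → Wd → Wd
  | 0, w => w
  | fuel + 1, w =>
    match step E M w.2 with
    | none => w
    | some q => collect M fuel (badd w.1 q.1, q.2)

/-- two words collect to one word -/
def eqW (M : ℕ) (u v : Wd) : Bool := collect E M 400 u == collect E M 400 v

/-- substitution of images -/
def subst (img : ℕ → Wd) (w : Wd) : Wd := wmul (w.1, []) ((w.2.map img).foldr wmul wone)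

/-- the images of the generators of `M` satisfy the relations -/
def homOK (n M M' : ℕ) (img : ℕ → Wd) : Bool :=
  (List.range n).all fun b => (List.range (b + 1)).all fun a =>
    !(M.testBit b && M.testBit a) || eqW E M' (wmul (img b) (img a)) (subst img (R E b a))

variable {G : Type*} [Group G]

/-- evaluation -/
def ev (φ : ℕ → G) (z : Bits → G) (w : Wd) : G := z w.1 * (w.2.map φ).prod

/-- the relations on the generators of `M` -/
structure Sat (n M : ℕ) (φ : ℕ → G) (z : Bits → G) : Prop where
  lt : ∀ a, M.testBit a = true → a < n
  zmul : ∀ p q, z p * z q = z (badd p q)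
  zc : ∀ p g, Commute (z p) g
  rel : ∀ a b, M.testBit a = true → M.testBit b = true → a ≤ b → φ b * φ a = ev φ z (R E b a)

namespace Sat

variable {E} {n M : ℕ} {φ : ℕ → G} {z : Bits → G} (S : Sat E n M φ z)
include S

theorem z_zero : z (false, false) = 1 := by
  have h := S.zmul (false, false) (false, false)
  simpa [badd] using h

theorem z_self (p : Bits) : z p * z p = 1 := by
  rw [S.zmul]
  simpa [badd] using S.z_zero

theorem z_inv (p : Bits) : (z p)⁻¹ = z p := inv_eq_of_mul_eq_one_right (S.z_self p)

theorem ev_one : ev φ z wone = 1 := by simp [ev, wone, S.z_zero]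

theorem ev_mul (u v : Wd) : ev φ z (wmul u v) = ev φ z u * ev φ z v := by
  simp only [ev, wmul, List.map_append, List.prod_append, ← S.zmul]
  rw [mul_assoc (z u.1), ← mul_assoc (z v.1), (S.zc v.1 (u.2.map φ).prod).eq]
  group

theorem ev_word (p : Bits) (l : List ℕ) : ev φ z (p, l) = z p * (l.map φ).prod := rfl

theorem ev_single (a : ℕ) : ev φ z ((false, false), [a]) = φ a := by simp [ev, S.z_zero]

theorem step_spec : ∀ (l : List ℕ) (q : Wd), step E M l = some q → (l.map φ).prod = ev φ z q
  | [], q, h => by simp [step] at h
  | [_], q, h => by simp [step] at h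
  | x :: y :: r, q, h => by
    unfold step at h
    split at h
    next hle =>
      split at h
      next hb =>
        simp only [Bool.and_eq_true] at hb
        simp only [Option.some.injEq] at h
        subst h
        simp only [List.map_cons, List.prod_cons, ev, List.map_append, List.prod_append]
        rw [← mul_assoc, S.rel y x hb.2 hb.1 hle]
        simp only [ev, mul_assoc]
      next => simp at h
    next =>
      obtain ⟨q', hq, rfl⟩ := Option.map_eq_some_iff.1 h
      rw [List.map_cons, List.prod_cons, step_spec (y :: r) q' hq]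
      simp only [ev, List.map_cons, List.prod_cons]
      rw [← mul_assoc, ← (S.zc q'.1 (φ x)).eq, mul_assoc]

theorem collect_spec : ∀ (f : ℕ) (w : Wd), ev φ z (collect E M f w) = ev φ z w
  | 0, w => rfl
  | f + 1, w => by
    unfold collect
    split
    · rfl
    next q hq =>
      rw [collect_spec f]
      simp only [ev, ← S.zmul]
      rw [S.step_spec _ _ hq, ev, mul_assoc]

theorem eq_of_eqW {u v : Wd} (h : eqW E M u v = true) : ev φ z u = ev φ z v := by
  rw [← S.collect_spec 400 u, ← S.collect_spec 400 v, eq_of_beq h]

theorem ev_subst (img : ℕ → Wd) (w : Wd) :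
    ev φ z (subst img w) = ev (fun i => ev φ z (img i)) z w := by
  have key : ∀ l : List ℕ, ev φ z ((l.map img).foldr wmul wone) = (l.map fun i => ev φ z (img i)).prod := by
    intro l
    induction l with
    | nil => simp [S.ev_one]
    | cons a l ih => simp only [List.map_cons, List.foldr_cons, List.prod_cons, S.ev_mul, ih]
  rw [subst, S.ev_mul, key]
  simp [ev]

/-- checked images satisfy the relations -/
theorem of_homOK {M0 : ℕ} {img : ℕ → Wd} (h0 : ∀ a, M0.testBit a = true → a < n)
    (h : homOK E n M0 M img = true) : Sat E n M0 (fun i => ev φ z (img i)) z where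
  lt := h0
  zmul := S.zmul
  zc := S.zc
  rel a b ha hb hle := by
    simp only [homOK, List.all_eq_true, List.mem_range, Bool.or_eq_true, Bool.not_eq_true'] at h
    have e := (h b (h0 b hb) a (by omega)).resolve_left (by simp [ha, hb])
    rw [← S.ev_mul, S.eq_of_eqW e, S.ev_subst]

theorem restrict {M0 : ℕ} (h : ∀ a, M0.testBit a = true → M.testBit a = true) : Sat E n M0 φ z where
  lt a ha := S.lt a (h a ha)
  zmul := S.zmul
  zc := S.zc
  rel a b ha hb := S.rel a b (h a ha) (h b hb)

end Sat

/-- the entries lie in `M`, above the smaller index, and squares are central -/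
def upOK (n M : ℕ) : Bool :=
  (List.range n).all fun b => (List.range (b + 1)).all fun a =>
    !(M.testBit b && M.testBit a) ||
      ((E b a).2.all (fun t => Nat.blt a t && M.testBit t) && (!(a == b) || (E b a).2.isEmpty))

variable {E}

theorem upOK_spec {n M : ℕ} (hlt : ∀ a, M.testBit a = true → a < n) (h : upOK E n M = true) {a b : ℕ}
    (ha : M.testBit a = true) (hb : M.testBit b = true) (hle : a ≤ b) :
    (∀ t ∈ (E b a).2, a < t ∧ M.testBit t = true) ∧ (a = b → (E b a).2 = []) := by
  simp only [upOK, List.all_eq_true, List.mem_range, Bool.or_eq_true, Bool.not_eq_true'] at h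
  have e := (h b (hlt b hb) a (by omega)).resolve_left (by simp [ha, hb])
  simp only [Bool.and_eq_true, List.all_eq_true, Nat.blt_eq, Bool.or_eq_true, Bool.not_eq_true',
    beq_eq_false_iff_ne, List.isEmpty_iff] at e
  exact ⟨e.1, fun hab => e.2.resolve_left (fun hne => hne hab)⟩

/-- the number of marked indices from `k` on -/
def cnt (n M k : ℕ) : ℕ := ((List.range n).filter fun i => M.testBit i && Nat.ble k i).length

theorem cnt_succ {n M k : ℕ} (hk : k < n) :
    cnt n M k = (if M.testBit k then 1 else 0) + cnt n M (k + 1) := by
  unfold cnt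
  induction n with
  | zero => omega
  | succ n ih =>
    rw [List.range_succ, List.filter_append, List.filter_append, List.length_append, List.length_append]
    rcases Nat.lt_or_ge k n with h | h
    · rw [ih h]
      have e : (Nat.ble k n) = true ∧ (Nat.ble (k + 1) n) = true := by
        simp only [Nat.ble_eq]; omega
      simp [List.filter_cons, e.1, e.2]
      omega
    · obtain rfl : k = n := by omega
      have e1 : ∀ j, k ≤ j → (List.range k).filter (fun i => M.testBit i && Nat.ble j i) = [] := by
        intro j hj
        simp only [List.filter_eq_nil_iff, List.mem_range, Bool.and_eq_true, Nat.ble_eq, not_and]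
        intro i hi _
        omega
      rw [e1 k le_rfl, e1 (k + 1) (by omega)]
      cases hb : M.testBit k <;> simp [List.filter_cons, hb]

theorem card_le {n M : ℕ} {φ : ℕ → G} {z : Bits → G} (S : Sat E n M φ z) (hup : upOK E n M = true) :
    ((Subgroup.closure (Set.range z ∪ φ '' {i | M.testBit i = true}) : Subgroup G) : Set G).Finite ∧
      Nat.card (Subgroup.closure (Set.range z ∪ φ '' {i | M.testBit i = true})) ≤ (Set.range z).ncard * 2 ^ cnt n M 0 := by
  classical
  let H : ℕ → Subgroup G := fun k =>
    Subgroup.closure (Set.range z ∪ φ '' {i | M.testBit i = true ∧ k ≤ i})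
  have key : ∀ d k, k + d = n → ((H k : Set G)).Finite ∧ (H k : Set G).ncard ≤ (Set.range z).ncard * 2 ^ cnt n M k := by
    intro d
    induction d with
    | zero =>
      intro k hk
      have hc : cnt n M k = 0 := by
        simp only [cnt, List.length_eq_zero_iff, List.filter_eq_nil_iff, List.mem_range, Bool.and_eq_true,
          Nat.ble_eq, not_and]
        intro i hi _
        omega
      let Z : Subgroup G :=
        { carrier := Set.range z
          mul_mem' := by rintro _ _ ⟨p, rfl⟩ ⟨q, rfl⟩; exact ⟨_, (S.zmul p q).symm⟩
          one_mem' := ⟨_, S.z_zero⟩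
          inv_mem' := by rintro _ ⟨p, rfl⟩; exact ⟨p, (S.z_inv p).symm⟩ }
      have hle : (H k : Set G) ⊆ Set.range z := by
        have : H k ≤ Z := (Subgroup.closure_le _).2 (by
          rintro g (hg | ⟨i, ⟨hi, hki⟩, rfl⟩)
          · exact hg
          · exact absurd (S.lt i hi) (by omega))
        exact this
      have hf : (Set.range z).Finite := Set.finite_range z
      refine ⟨hf.subset hle, ?_⟩
      rw [hc, pow_zero, mul_one]
      exact Set.ncard_le_ncard hle hf
    | succ d ih =>
      intro k hk
      obtain ⟨hfin, hcard⟩ := ih (k + 1) (by omega)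
      by_cases hb : M.testBit k = true
      · set N := H (k + 1) with hN
        set a := φ k
        have hzN : ∀ p, z p ∈ N := fun p => Subgroup.subset_closure (Or.inl ⟨p, rfl⟩)
        have hφN : ∀ i, M.testBit i = true → k < i → φ i ∈ N := fun i hi hki =>
          Subgroup.subset_closure (Or.inr ⟨i, ⟨hi, hki⟩, rfl⟩)
        have haa : a * a ∈ N := by
          rw [S.rel k k hb hb le_rfl, ev, R, if_pos rfl, (upOK_spec S.lt hup hb hb le_rfl).2 rfl]
          simpa using hzN _
        have hconj : ∀ g ∈ N, a * g * a⁻¹ ∈ N := by
          intro g hg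
          induction hg using Subgroup.closure_induction with
          | one => simp
          | mul x y _ _ hx hy =>
            rw [show a * (x * y) * a⁻¹ = a * x * a⁻¹ * (a * y * a⁻¹) by group]; exact mul_mem hx hy
          | inv x _ hx => rw [show a * x⁻¹ * a⁻¹ = (a * x * a⁻¹)⁻¹ by group]; exact inv_mem hx
          | mem x hx =>
            rcases hx with ⟨p, rfl⟩ | ⟨i, ⟨hi, hki⟩, rfl⟩
            · rw [← (S.zc p a).eq, mul_inv_cancel_right]; exact hzN p
            · show a * φ i * a⁻¹ ∈ N
              have hr := S.rel k i hb hi (by omega)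
              rw [R, if_neg (by omega), ev, List.map_append, List.prod_append] at hr
              simp only [List.map_cons, List.map_nil, List.prod_cons, List.prod_nil, mul_one] at hr
              have hT : ((E i k).2.map φ).prod ∈ N := N.list_prod_mem (by
                intro x hx
                obtain ⟨t, ht, rfl⟩ := List.mem_map.1 hx
                obtain ⟨h1, h2⟩ := (upOK_spec S.lt hup hb hi (by omega)).1 t ht
                exact hφN t h2 h1)
              have e : a * φ i * a⁻¹ = (z (E i k).1 * ((E i k).2.map φ).prod)⁻¹ * φ i := by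
                rw [mul_inv_eq_iff_eq_mul, mul_assoc _ (φ i) a, show φ i * a = _ from hr]
                show φ k * φ i = _
                group
              rw [e]
              exact mul_mem (inv_mem (mul_mem (hzN _) hT)) (hφN i hi hki)
        have hinv : ∀ g ∈ N, a⁻¹ * g * a ∈ N := by
          intro g hg
          have := mul_mem (mul_mem (inv_mem haa) (hconj g hg)) haa
          rwa [show (a * a)⁻¹ * (a * g * a⁻¹) * (a * a) = a⁻¹ * g * a by group] at this
        let H' : Subgroup G :=
          { carrier := (N : Set G) ∪ (fun g => a * g) '' (N : Set G)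
            one_mem' := Or.inl (one_mem _)
            mul_mem' := by
              rintro x y (hx | ⟨x', hx, rfl⟩) (hy | ⟨y', hy, rfl⟩)
              · exact Or.inl (mul_mem hx hy)
              · exact Or.inr ⟨a⁻¹ * x * a * y', mul_mem (hinv x hx) hy, by group⟩
              · exact Or.inr ⟨x' * y, mul_mem hx hy, (mul_assoc _ _ _).symm⟩
              · refine Or.inl ?_
                have := mul_mem (mul_mem haa (hinv x' hx)) hy
                rwa [show a * a * (a⁻¹ * x' * a) * y' = a * x' * (a * y') by group] at this
            inv_mem' := by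
              rintro x (hx | ⟨x', hx, rfl⟩)
              · exact Or.inl (inv_mem hx)
              · exact Or.inr ⟨a⁻¹ * x'⁻¹ * a * (a * a)⁻¹, mul_mem (hinv _ (inv_mem hx)) (inv_mem haa),
                  by group⟩ }
        have hle : (H k : Set G) ⊆ (N : Set G) ∪ (fun g => a * g) '' (N : Set G) := by
          have : H k ≤ H' := (Subgroup.closure_le _).2 (by
            rintro g (hg | ⟨i, ⟨hi, hki⟩, rfl⟩)
            · exact Or.inl (Subgroup.subset_closure (Or.inl hg))
            · rcases eq_or_lt_of_le hki with rfl | h
              · exact Or.inr ⟨1, one_mem _, mul_one _⟩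
              · exact Or.inl (hφN i hi h))
          exact this
        have hf : ((N : Set G) ∪ (fun g => a * g) '' (N : Set G)).Finite := hfin.union (hfin.image _)
        refine ⟨hf.subset hle, (Set.ncard_le_ncard hle hf).trans ?_⟩
        refine (Set.ncard_union_le _ _).trans ?_
        rw [cnt_succ (show k < n by omega), if_pos hb, pow_add, pow_one]
        have := Set.ncard_image_le (f := fun g => a * g) hfin
        have hN' : (N : Set G).ncard ≤ (Set.range z).ncard * 2 ^ cnt n M (k + 1) := hcard
        rw [Nat.mul_left_comm]
        omega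
      · have e : H k = H (k + 1) := by
          refine congrArg Subgroup.closure (congrArg (fun s => Set.range z ∪ φ '' s) ?_)
          ext i
          refine ⟨fun ⟨h1, h2⟩ => ⟨h1, ?_⟩, fun ⟨h1, h2⟩ => ⟨h1, by omega⟩⟩
          rcases eq_or_lt_of_le h2 with rfl | h
          · exact absurd h1 hb
          · omega
        rw [e, cnt_succ (show k < n by omega), if_neg hb, zero_add]
        exact ⟨hfin, hcard⟩
  have e : Subgroup.closure (Set.range z ∪ φ '' {i | M.testBit i = true}) = H 0 := by
    simp [H]
  rw [e]
  obtain ⟨h1, h2⟩ := key n 0 (by omega)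
  exact ⟨h1, (Nat.card_coe_set_eq (H 0 : Set G)).trans_le h2⟩

section Presented

variable (E)

/-- the relators -/
def rels (n M : ℕ) : Set (FreeGroup (ℕ ⊕ Bits)) :=
  {u | ∃ p q : Bits, u = FreeGroup.of (Sum.inr p) * FreeGroup.of (Sum.inr q) *
      (FreeGroup.of (Sum.inr (badd p q)))⁻¹} ∪
  {u | ∃ (p : Bits) (x : ℕ ⊕ Bits), u = ⁅(FreeGroup.of (Sum.inr p) : FreeGroup (ℕ ⊕ Bits)), FreeGroup.of x⁆} ∪
  {u | ∃ a, ¬(M.testBit a = true ∧ a < n) ∧ u = FreeGroup.of (Sum.inl a)} ∪
  {u | ∃ a b, M.testBit a = true ∧ M.testBit b = true ∧ a ≤ b ∧
    u = FreeGroup.of (Sum.inl b) * FreeGroup.of (Sum.inl a) *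
      (ev (fun i => FreeGroup.of (Sum.inl i)) (fun p => FreeGroup.of (Sum.inr p)) (R E b a))⁻¹}

/-- the presented group -/
abbrev PG (n M : ℕ) : Type := PresentedGroup (rels E n M)

/-- its generators -/
def gen (n M : ℕ) (a : ℕ) : PG E n M := PresentedGroup.of (Sum.inl a)

/-- its centre -/
def zen (n M : ℕ) (p : Bits) : PG E n M := PresentedGroup.of (Sum.inr p)

theorem map_ev {H : Type*} [Group H] (f : G →* H) (φ : ℕ → G) (z : Bits → G) (w : Wd) :
    f (ev φ z w) = ev (fun i => f (φ i)) (fun p => f (z p)) w := by
  simp only [ev, map_mul, map_list_prod, List.map_map]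
  rfl

theorem sat_PG {n M : ℕ} (h : ∀ a, M.testBit a = true → a < n) :
    Sat E n M (gen E n M) (zen E n M) where
  lt := h
  zmul p q := by
    have e := PresentedGroup.one_of_mem (rels := rels E n M)
      (show _ ∈ rels E n M from Or.inl (Or.inl (Or.inl ⟨p, q, rfl⟩)))
    simp only [map_mul, map_inv, mul_inv_eq_one] at e
    exact e
  zc p g := by
    have hle : (⊤ : Subgroup (PG E n M)) ≤ Subgroup.centralizer {zen E n M p} := by
      rw [← PresentedGroup.closure_range_of, Subgroup.closure_le]
      rintro _ ⟨x, rfl⟩
      have e := PresentedGroup.one_of_mem (rels := rels E n M)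
        (show _ ∈ rels E n M from Or.inl (Or.inl (Or.inr ⟨p, x, rfl⟩)))
      rw [map_commutatorElement, commutatorElement_eq_one_iff_mul_comm] at e
      exact Subgroup.mem_centralizer_singleton_iff.2 e.symm
    exact (Subgroup.mem_centralizer_singleton_iff.1 (hle (Subgroup.mem_top g))).symm
  rel a b ha hb hle := by
    have e := PresentedGroup.one_of_mem (rels := rels E n M)
      (show _ ∈ rels E n M from Or.inr ⟨a, b, ha, hb, hle, rfl⟩)
    simp only [map_mul, map_inv, mul_inv_eq_one, map_ev] at e
    exact e

variable {E}

theorem ev_eq (φ : ℕ → G) (z : Bits → G) (p : Bits) (l : List ℕ) :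
    ev φ z (p, l) = z p * (l.map φ).prod := rfl

theorem mem_R {n M : ℕ} (hlt : ∀ a, M.testBit a = true → a < n) (hup : upOK E n M = true) {a b : ℕ}
    (ha : M.testBit a = true) (hb : M.testBit b = true) (hle : a ≤ b) :
    ∀ t ∈ (R E b a).2, M.testBit t = true := by
  intro t ht
  rcases List.mem_append.1 ht with h | h
  · exact ((upOK_spec hlt hup ha hb hle).1 t h).2
  · split at h
    · simp at h
    · simp only [List.mem_cons, List.not_mem_nil, or_false] at h
      rcases h with rfl | rfl <;> assumption

theorem exists_lift {n M : ℕ} {φ : ℕ → G} {z : Bits → G} (S : Sat E n M φ z) (hup : upOK E n M = true) :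
    ∃ f : PG E n M →* G, (∀ a, M.testBit a = true → f (gen E n M a) = φ a) ∧
      ∀ p, f (zen E n M p) = z p := by
  classical
  let φ' : ℕ → G := fun a => if M.testBit a = true ∧ a < n then φ a else 1
  let v : ℕ ⊕ Bits → G := Sum.elim φ' z
  have hv : ∀ a, M.testBit a = true → φ' a = φ a := fun a ha => by simp [φ', ha, S.lt a ha]
  have hr : ∀ u ∈ rels E n M, FreeGroup.lift v u = 1 := by
    rintro u (((⟨p, q, rfl⟩ | ⟨p, x, rfl⟩) | ⟨a, ha, rfl⟩) | ⟨a, b, ha, hb, hle, rfl⟩)
    · simp [v, S.zmul]
    · rw [map_commutatorElement, commutatorElement_eq_one_iff_mul_comm]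
      simpa [v] using (S.zc p (v x)).eq
    · simp [v, φ', ha]
    · simp only [map_mul, map_inv, mul_inv_eq_one, map_ev, FreeGroup.lift_apply_of, v, Sum.elim_inl,
        Sum.elim_inr, hv a ha, hv b hb, S.rel a b ha hb hle]
      simp only [ev]
      congr 2
      exact List.map_congr_left fun t ht => (hv t (mem_R S.lt hup ha hb hle t ht)).symm
  exact ⟨PresentedGroup.toGroup (f := v) hr,
    fun a ha => (PresentedGroup.toGroup.of hr).trans (hv a ha),
    fun p => PresentedGroup.toGroup.of hr⟩

/-- generators and centre exhaust the presented group -/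
theorem closure_gen {n M : ℕ} : Subgroup.closure (Set.range (zen E n M) ∪
    gen E n M '' {i | M.testBit i = true}) = ⊤ := by
  rw [eq_top_iff, ← PresentedGroup.closure_range_of, Subgroup.closure_le]
  rintro _ ⟨a | p, rfl⟩
  · by_cases ha : M.testBit a = true ∧ a < n
    · exact Subgroup.subset_closure (Or.inr ⟨a, ha.1, rfl⟩)
    · have e := PresentedGroup.one_of_mem (rels := rels E n M)
        (show _ ∈ rels E n M from Or.inl (Or.inr ⟨a, ha, rfl⟩))
      rw [show (PresentedGroup.of (Sum.inl a) : PG E n M) = 1 from e]
      exact one_mem _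
  · exact Subgroup.subset_closure (Or.inl ⟨p, rfl⟩)

end Presented

section Extension

/-- cyclic extension of degree two by an involutory automorphism and a fixed central element -/
structure Ext {N : Type*} [Group N] (α : N →* N) (e : N) where
  /-- the part in `N` -/
  val : N
  /-- the coset -/
  par : Bool

variable {N : Type*} [Group N] {α : N →* N} {e : N}

/-- the hypotheses of the extension -/
class ExtData {N : Type*} [Group N] (α : N →* N) (e : N) : Prop where
  invol : ∀ x, α (α x) = x
  fix : α e = e
  cen : ∀ x, Commute e x

instance : Mul (Ext α e) :=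
  ⟨fun x y => ⟨x.val * (if x.par then α y.val else y.val) * (if x.par && y.par then e else 1),
    xor x.par y.par⟩⟩

theorem Ext.mul_def (x y : Ext α e) :
    x * y = ⟨x.val * (if x.par then α y.val else y.val) * (if x.par && y.par then e else 1),
      xor x.par y.par⟩ := rfl

instance : One (Ext α e) := ⟨⟨1, false⟩⟩

instance : Inv (Ext α e) :=
  ⟨fun x => if x.par then ⟨e⁻¹ * (α x.val)⁻¹, true⟩ else ⟨x.val⁻¹, false⟩⟩

variable [hd : ExtData α e]

instance : Group (Ext α e) :=
  Group.ofLeftAxioms
    (fun ⟨a, i⟩ ⟨b, j⟩ ⟨c, k⟩ => by
      show (⟨_, _⟩ : Ext α e) = ⟨_, _⟩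
      have hc : ∀ x, e * x = x * e := fun x => (hd.cen x).eq
      have hc' : ∀ x y, e * (x * y) = x * (e * y) := fun x y => by rw [← mul_assoc, hc, mul_assoc]
      cases i <;> cases j <;> cases k <;>
        simp [Ext.mul_def, map_mul, hd.invol, hd.fix, mul_assoc, hc, hc'])
    (fun ⟨a, i⟩ => by
      show (⟨_, _⟩ : Ext α e) = ⟨a, i⟩
      cases i <;> simp [Ext.mul_def, show (1 : Ext α e).par = false from rfl, show (1 : Ext α e).val = 1 from rfl])
    (fun ⟨a, i⟩ => by
      cases i
      · show (⟨_, _⟩ : Ext α e) = ⟨1, false⟩
        simp [Ext.mul_def, show ((⟨a, false⟩ : Ext α e)⁻¹) = ⟨a⁻¹, false⟩ from rfl]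
      · show (⟨_, _⟩ : Ext α e) = ⟨1, false⟩
        have hc : ∀ x, e * x = x * e := fun x => (hd.cen x).eq
        simp [Ext.mul_def, show ((⟨a, true⟩ : Ext α e)⁻¹) = ⟨e⁻¹ * (α a)⁻¹, true⟩ from rfl, mul_assoc, hc])

/-- the inclusion -/
def Ext.incl : N →* Ext α e where
  toFun x := ⟨x, false⟩
  map_one' := rfl
  map_mul' x y := by rw [Ext.mul_def]; simp

variable (E)

/-- the indices from `k` on -/
def tail (n k : ℕ) : ℕ := (2 ^ n - 1) >>> k <<< k

theorem testBit_tail (n k i : ℕ) : (tail n k).testBit i = true ↔ k ≤ i ∧ i < n := by
  simp only [tail, Nat.testBit_shiftLeft, Nat.testBit_shiftRight, Bool.and_eq_true, decide_eq_true_eq]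
  refine and_congr_right fun h => ?_
  rw [Nat.add_sub_cancel' h, Nat.testBit_two_pow_sub_one, decide_eq_true_eq]

/-- conjugation by `k` on a later generator -/
def alpha (k b : ℕ) : Wd :=
  wmul ((E b k).2.foldr (fun t p => badd (E t t).1 p) (E b k).1, (E b k).2.reverse) ((false, false), [b])

/-- the checks of one extension step -/
def extOK (n k : ℕ) : Bool :=
  homOK E n (tail n (k + 1)) (tail n (k + 1)) (alpha E k) &&
    (List.range n).all (fun b => Nat.ble b k ||
      eqW E (tail n (k + 1)) (subst (alpha E k) (alpha E k b)) ((false, false), [b]))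

/-- all steps -/
def pcOK (n : ℕ) : Bool := (List.range n).all fun k => upOK E n (tail n k) && extOK E n k

variable {E}

/-- distinct central bits are distinct in the presented group -/
theorem zen_injective {n : ℕ} (h : pcOK E n = true) :
    ∀ k ≤ n, Function.Injective (zen E n (tail n k)) := by
  simp only [pcOK, List.all_eq_true, List.mem_range, Bool.and_eq_true] at h
  have hlt : ∀ k a, (tail n k).testBit a = true → a < n := fun k a ha => ((testBit_tail n k a).1 ha).2
  suffices ∀ d k, k + d = n → Function.Injective (zen E n (tail n k)) from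
    fun k hk => this (n - k) k (by omega)
  intro d
  induction d with
  | zero =>
    intro k hk p q hpq
    have hno : ∀ a, ¬ (tail n k).testBit a = true := fun a ha => by
      have := (testBit_tail n k a).1 ha; omega
    let z : Bits → Multiplicative (ZMod 2 × ZMod 2) := fun p =>
      Multiplicative.ofAdd ((if p.1 then 1 else 0), (if p.2 then 1 else 0))
    have S : Sat E n (tail n k) (fun _ => (1 : Multiplicative (ZMod 2 × ZMod 2))) z :=
      ⟨hlt k, by decide, fun p g => Commute.all _ _, fun a b ha => absurd ha (hno a)⟩
    have hup : upOK E n (tail n k) = true := by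
      simp only [upOK, List.all_eq_true, List.mem_range, Bool.or_eq_true, Bool.not_eq_true']
      intro b _ a _
      left
      have := hno b
      simp only [Bool.not_eq_true] at this
      simp [this]
    obtain ⟨f, -, hf⟩ := exists_lift S hup
    have e := congrArg f hpq
    rw [hf, hf] at e
    have key : ∀ p q : Bits, z p = z q → p = q := by decide
    exact key p q e
  | succ d ih =>
    intro k hk p q hpq
    have IH := ih (k + 1) (by omega)
    obtain ⟨hup, hext⟩ := h k (by omega)
    simp only [extOK, Bool.and_eq_true, List.all_eq_true, List.mem_range, Bool.or_eq_true, Nat.ble_eq] at hext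
    obtain ⟨hhom, hinv⟩ := hext
    have S' := sat_PG E (n := n) (M := (tail n (k + 1))) (hlt _)
    have hbk : (tail n k).testBit k = true := (testBit_tail n k k).2 ⟨le_rfl, by omega⟩
    have hup' : upOK E n (tail n (k + 1)) = true := by
      simp only [upOK, List.all_eq_true, List.mem_range, Bool.or_eq_true, Bool.not_eq_true',
        Bool.and_eq_true, Nat.blt_eq] at hup ⊢
      intro b hb a hab
      by_cases hboth : ((tail n (k + 1)).testBit b && (tail n (k + 1)).testBit a) = true
      · right
        simp only [Bool.and_eq_true] at hboth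
        have hb' := (testBit_tail n (k + 1) b).1 hboth.1
        have ha' := (testBit_tail n (k + 1) a).1 hboth.2
        have := (hup b hb a hab).resolve_left (by
          simp [(testBit_tail n k b).2 ⟨by omega, hb'.2⟩, (testBit_tail n k a).2 ⟨by omega, ha'.2⟩])
        refine ⟨fun t ht => ⟨(this.1 t ht).1, ?_⟩, this.2⟩
        exact (testBit_tail n (k + 1) t).2 ⟨by have := (this.1 t ht).1; omega,
          ((testBit_tail n k t).1 (this.1 t ht).2).2⟩
      · left
        simpa [Bool.not_eq_true] using hboth
    obtain ⟨α, hα, hαz⟩ := exists_lift (S'.of_homOK (hlt _) hhom) hup'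
    have hsq : (E k k).2 = [] := (upOK_spec (hlt k) hup hbk hbk le_rfl).2 rfl
    let e := zen E n (tail n (k + 1)) (E k k).1
    have hinvol : α.comp α = MonoidHom.id _ := by
      refine MonoidHom.eq_of_eqOn_dense closure_gen ?_
      rintro x (⟨p, rfl⟩ | ⟨b, hb, rfl⟩)
      · simp [hαz]
      · have hb' := (testBit_tail n (k + 1) b).1 hb
        show α (α _) = _
        rw [hα b hb, map_ev]
        have e1 := S'.eq_of_eqW ((hinv b hb'.2).resolve_left (by omega))
        rw [S'.ev_subst, S'.ev_single] at e1
        refine Eq.trans ?_ e1
        simp only [ev, hαz]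
        refine congrArg₂ (· * ·) rfl (congrArg List.prod (List.map_congr_left fun t ht => hα t ?_))
        simp only [alpha, wmul, List.mem_append, List.mem_reverse, List.mem_cons, List.not_mem_nil,
          or_false] at ht
        rcases ht with ht | rfl
        · exact (testBit_tail n (k + 1) t).2
            (have := (upOK_spec (hlt k) hup hbk ((testBit_tail n k b).2 ⟨by omega, hb'.2⟩) (by omega)).1 t ht
             ⟨by omega, hlt k t this.2⟩)
        · exact hb
    haveI : ExtData α e := ⟨fun x => DFunLike.congr_fun hinvol x, hαz _, fun x => S'.zc _ x⟩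
    let φ : ℕ → Ext α e := fun i => if i = k then ⟨1, true⟩ else Ext.incl (gen E n (tail n (k + 1)) i)
    let z : Bits → Ext α e := fun p => Ext.incl (zen E n (tail n (k + 1)) p)
    have hφ : ∀ i, k < i → φ i = Ext.incl (gen E n (tail n (k + 1)) i) := fun i hi => if_neg (by omega)
    have S : Sat E n (tail n k) φ z := by
      refine ⟨hlt k, fun p q => ?_, fun p g => ?_, fun a b ha hb hle => ?_⟩
      · show Ext.incl _ * Ext.incl _ = _
        rw [← map_mul, S'.zmul]
      · obtain ⟨g, i⟩ := g
        show (⟨_, _⟩ : Ext α e) = ⟨_, _⟩
        cases i <;> simp [z, Ext.incl, hαz, (S'.zc p g).eq]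
      · have ha' := (testBit_tail n k a).1 ha
        have hb' := (testBit_tail n k b).1 hb
        have hT := (upOK_spec (hlt k) hup ha hb hle).1
        have hev : ev φ z ((E b a).1, (E b a).2) =
            Ext.incl (ev (gen E n (tail n (k + 1))) (zen E n (tail n (k + 1))) ((E b a).1, (E b a).2)) := by
          rw [map_ev]
          simp only [ev]
          congr 2
          exact List.map_congr_left fun t ht => hφ t (by have := (hT t ht).1; omega)
        rcases eq_or_lt_of_le ha'.1 with rfl | hka
        · rcases eq_or_lt_of_le hle with rfl | hkb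
          · show φ k * φ k = _
            rw [R, if_pos rfl, hsq]
            simp [φ, ev, z, Ext.mul_def, Ext.incl, e]
          · have hb2 : (tail n (k + 1)).testBit b = true := (testBit_tail n (k + 1) b).2 ⟨by omega, hb'.2⟩
            have hab : ∀ t ∈ (E b k).2, (tail n (k + 1)).testBit t = true := fun t ht =>
              (testBit_tail n (k + 1) t).2 ⟨(hT t ht).1, hlt k t (hT t ht).2⟩
            have key : ∀ l : List ℕ, (∀ t ∈ l, (tail n (k + 1)).testBit t = true) →
                (l.map (gen E n (tail n (k + 1)))).prod * ev (gen E n (tail n (k + 1))) (zen E n (tail n (k + 1)))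
                  (l.foldr (fun t p => badd (E t t).1 p) (E b k).1, l.reverse) = zen E n (tail n (k + 1)) (E b k).1 := by
              intro l hl
              induction l with
              | nil => simp [ev]
              | cons t l ih =>
                have ht := hl t (List.mem_cons_self ..)
                have htt := S'.rel t t ht ht le_rfl
                rw [R, if_pos rfl, (upOK_spec (hlt _) hup' ht ht le_rfl).2 rfl] at htt
                simp only [ev, List.append_nil, List.map_nil, List.prod_nil, mul_one] at htt
                have ih' := ih fun x hx => hl x (List.mem_cons_of_mem _ hx)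
                simp only [ev] at ih'
                simp only [ev, List.foldr_cons, List.reverse_cons, List.map_append, List.map_cons,
                  List.map_nil, List.prod_append, List.prod_cons, List.prod_nil, mul_one, ← S'.zmul]
                generalize (l.map (gen E n (tail n (k + 1)))).prod = Lp at ih' ⊢
                generalize (l.reverse.map (gen E n (tail n (k + 1)))).prod = Rp at ih' ⊢
                generalize zen E n (tail n (k + 1)) (l.foldr (fun t p => badd (E t t).1 p) (E b k).1) = F at ih' ⊢
                have hw : Commute (zen E n (tail n (k + 1)) (E t t).1) (zen E n (tail n (k + 1)) (E b k).1) := S'.zc _ _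
                calc gen E n (tail n (k + 1)) t * Lp * (zen E n (tail n (k + 1)) (E t t).1 * F * (Rp * gen E n (tail n (k + 1)) t))
                    = zen E n (tail n (k + 1)) (E t t).1 * (gen E n (tail n (k + 1)) t * (Lp * (F * Rp)) * gen E n (tail n (k + 1)) t) := by
                      rw [mul_assoc (zen E n (tail n (k + 1)) (E t t).1), ← mul_assoc, ← (S'.zc _ (gen E n (tail n (k + 1)) t * Lp)).eq]
                      simp only [mul_assoc]
                  _ = zen E n (tail n (k + 1)) (E t t).1 * (zen E n (tail n (k + 1)) (E b k).1 * (gen E n (tail n (k + 1)) t * gen E n (tail n (k + 1)) t)) := by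
                      rw [ih', ← (S'.zc _ (gen E n (tail n (k + 1)) t)).eq, mul_assoc]
                  _ = _ := by
                      rw [htt, ← mul_assoc, hw.eq, mul_assoc, S'.z_self, mul_one]
            have k1 := key _ hab
            rw [R, if_neg (by omega)]
            rw [ev, List.map_append, List.prod_append, ← mul_assoc, ← ev_eq, hev]
            simp only [List.map_cons, List.map_nil, List.prod_cons, List.prod_nil, mul_one]
            have ek : φ k = ⟨1, true⟩ := if_pos rfl
            rw [hφ b hkb, ek]
            simp only [Ext.incl, MonoidHom.coe_mk, OneHom.coe_mk, Ext.mul_def, Bool.false_eq_true, if_false,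
              Bool.false_and, Bool.and_false, mul_one, one_mul, if_true, Bool.xor_false, Bool.false_xor,
              map_one, Ext.mk.injEq, and_true]
            rw [hα b hb2]
            show gen E n (tail n (k + 1)) b = _
            simp only [alpha, S'.ev_mul, S'.ev_single]
            rw [← mul_assoc, ev, mul_assoc (zen E n (tail n (k + 1)) (E b k).1), k1, S'.z_self, one_mul]
        · have hb2 : (tail n (k + 1)).testBit b = true := (testBit_tail n (k + 1) b).2 ⟨by omega, hb'.2⟩
          have ha2 : (tail n (k + 1)).testBit a = true := (testBit_tail n (k + 1) a).2 ⟨by omega, ha'.2⟩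
          rw [hφ a hka, hφ b (by omega), ← map_mul, S'.rel a b ha2 hb2 hle, map_ev]
          simp only [ev]
          congr 2
          refine List.map_congr_left fun t ht => (hφ t ?_).symm
          have := (testBit_tail n (k + 1) t).1 (mem_R (hlt _) hup' ha2 hb2 hle t ht)
          omega
    obtain ⟨f, -, hf⟩ := exists_lift S hup
    have e1 := congrArg f hpq
    rw [hf, hf] at e1
    exact IH (congrArg Ext.val e1)

end Extension

end CfsgLib.Lie.MultExc.Pc
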