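import Cfsg.Agent.Lib.Spor.SchurCert.PermBridge

/-!
The certificates for a group acting on a set with coded points and some elements given by their maps of the codes:
equalities are read off on points fixed only by the identity, orders from orbits inside the Sylow subgroup.
-/

set_option autoImplicit false

namespace CfsgLib.Lie.MultExc

open CfsgLib.Spor.SchurCert MulAction

/-- The image of a code under a word. -/
def walkV (step : ℕ → ℕ → ℕ) (us : List ℕ) (c : ℕ) : ℕ := us.foldr step c

/-- Two words agree on the points. -/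
def sameV (step : ℕ → ℕ → ℕ) (len : ℕ) (U u v : List ℕ) : Bool :=
  ((u ++ v).all fun x => Nat.blt x len) && U.all fun b => Nat.beq (walkV step u b) (walkV step v b)

/-- The identities between the Sylow words and the conjugations. -/
def identVec (step : ℕ → ℕ → ℕ) (len : ℕ) (U : List ℕ) (C : Cert) (sw gw : List (List ℕ)) : Bool :=
  Nat.beq sw.length C.m && (sw.all fun s => s.all fun x => Nat.blt x len) &&
    (C.rules.all fun r => sameV step len U (spell sw r.1) (spell sw r.2)) &&
    (List.range C.maps.length).all fun f => (C.pairs f).all fun P =>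
      sameV step len U (gw.getD f [] ++ spell sw P.1) (spell sw P.2 ++ gw.getD f [])

/-- Orbits inside the subgroup. -/
def subVecOK (N : ℕ) (step : ℕ → ℕ → ℕ) (sw : List (List ℕ)) :
    List ℕ → List (ℕ × List (ℕ × List ℕ)) → Bool
  | _, [] => true
  | fixed, (b, T) :: rest =>
    Nat.blt b N && increasing (T.map Prod.fst) &&
      (T.all fun e => (e.2.all fun i => Nat.blt i sw.length) &&
        (fixed.all fun c => Nat.beq (walkV step (spell sw e.2) c) c) &&
        Nat.beq (walkV step (spell sw e.2) b) e.1) &&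
      subVecOK N step sw (b :: fixed) rest

/-- What is needed of the coded action. -/
structure Coded {G : Type*} [Group G] {V : Type*} [MulAction G V] (code : ℕ → V) (N : ℕ) (gs : ℕ → G) (len : ℕ)
    (step : ℕ → ℕ → ℕ) (U : List ℕ) : Prop where
  step_lt : ∀ k < len, ∀ c < N, step k c < N
  step_spec : ∀ k < len, ∀ c < N, gs k • code c = code (step k c)
  inj : ∀ c < N, ∀ d < N, code c = code d → c = d
  base_lt : ∀ u ∈ U, u < N
  faithful : ∀ g : G, (∀ u ∈ U, g • code u = code u) → g = 1

variable {G : Type*} [Group G] {V : Type*} [MulAction G V] {code : ℕ → V} {N : ℕ} {gs : ℕ → G} {len : ℕ}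
  {step : ℕ → ℕ → ℕ} {U : List ℕ}

theorem walk_spec (K : Coded code N gs len step U) : ∀ us : List ℕ, (∀ u ∈ us, u < len) → ∀ c < N,
    walkV step us c < N ∧ (us.map gs).prod • code c = code (walkV step us c)
  | [], _, c, hc => ⟨hc, by simp [walkV]⟩
  | u :: us, h, c, hc => by
    obtain ⟨h1, h2⟩ := walk_spec K us (fun v hv => h v (List.mem_cons_of_mem _ hv)) c hc
    refine ⟨K.step_lt u (h u List.mem_cons_self) _ h1, ?_⟩
    rw [List.map_cons, List.prod_cons, mul_smul, h2, K.step_spec u (h u List.mem_cons_self) _ h1]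
    rfl

theorem prod_spell (sw : List (List ℕ)) : ∀ v : List ℕ,
    ((spell sw v).map gs).prod = wv (fun i => ((sw.getD i []).map gs).prod) v
  | [] => by simp [spell, wv_nil]
  | a :: v => by
    rw [show spell sw (a :: v) = sw.getD a [] ++ spell sw v by simp [spell], List.map_append, List.prod_append,
      prod_spell sw v, wv_cons]

theorem eq_of_sameV (K : Coded code N gs len step U) {u v : List ℕ} (h : sameV step len U u v = true) :
    (u.map gs).prod = (v.map gs).prod := by
  simp only [sameV, Bool.and_eq_true, List.all_eq_true] at h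
  obtain ⟨h1, h2⟩ := h
  refine inv_mul_eq_one.1 (K.faithful _ fun b hb => ?_)
  rw [mul_smul, inv_smul_eq_iff]
  rw [(walk_spec K v (fun x hx => Nat.le_of_ble_eq_true (h1 x (List.mem_append_right _ hx))) b (K.base_lt b hb)).2,
    (walk_spec K u (fun x hx => Nat.le_of_ble_eq_true (h1 x (List.mem_append_left _ hx))) b (K.base_lt b hb)).2,
    Nat.eq_of_beq_eq_true (h2 b hb)]

/-- The elements of a subgroup fixing the listed points. -/
def fixV (code : ℕ → V) (S : Subgroup G) : List ℕ → Subgroup G
  | [] => S
  | y :: ys => fixV code S ys ⊓ stabilizer G (code y)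

theorem mem_fixV {S : Subgroup G} {g : G} : ∀ {ys : List ℕ},
    g ∈ fixV code S ys ↔ g ∈ S ∧ ∀ y ∈ ys, g • code y = code y
  | [] => by simp [fixV]
  | y :: ys => by
    simp only [fixV, Subgroup.mem_inf, mem_stabilizer_iff, mem_fixV (ys := ys), List.mem_cons, forall_eq_or_imp]
    tauto

theorem orbit_card_mul (S : Subgroup G) (y : V) :
    (orbit S y).ncard * Nat.card (S ⊓ stabilizer G y : Subgroup G) = Nat.card S := by
  rw [← MulAction.index_stabilizer, mul_comm]
  have e : Nat.card (S ⊓ stabilizer G y : Subgroup G) = Nat.card (stabilizer S y) :=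
    Nat.card_congr ⟨fun g => ⟨⟨g.1, g.2.1⟩, g.2.2⟩, fun g => ⟨g.1.1, g.1.2, g.2⟩, fun _ => rfl, fun _ => rfl⟩
  rw [e, Subgroup.card_mul_index]

theorem subVec_count [Finite G] (K : Coded code N gs len step U) {sw : List (List ℕ)}
    (hlt : ∀ s ∈ sw, ∀ x ∈ s, x < len) (S : Subgroup G)
    (hS : ∀ v : List ℕ, (∀ i ∈ v, i < sw.length) → ((spell sw v).map gs).prod ∈ S) :
    ∀ (T : List (ℕ × List (ℕ × List ℕ))) (fixed : List ℕ), (∀ c ∈ fixed, c < N) →
      subVecOK N step sw fixed T = true → (T.map fun e => e.2.length).prod ≤ Nat.card (fixV code S fixed)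
  | [], fixed, _, _ => by simp [Nat.one_le_iff_ne_zero, Nat.card_pos.ne']
  | (b, T) :: rest, fixed, hf, hok => by
    simp only [subVecOK, Bool.and_eq_true, List.all_eq_true] at hok
    obtain ⟨⟨⟨hb', hasc⟩, hT⟩, hrest⟩ := hok
    have hb : b < N := Nat.le_of_ble_eq_true hb'
    have ih := subVec_count K hlt S hS rest (b :: fixed) (by simpa [hb] using hf) hrest
    rw [List.map_cons, List.prod_cons, ← orbit_card_mul (fixV code S fixed) (code b)]
    refine Nat.mul_le_mul ?_ ih
    have hw : ∀ i : Fin T.length, ∀ c < N, walkV step (spell sw (T[i.1]).2) c < N ∧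
        ((spell sw (T[i.1]).2).map gs).prod • code c = code (walkV step (spell sw (T[i.1]).2) c) :=
      fun i => walk_spec K _ (spell_lt hlt _)
    have hval : ∀ i : Fin T.length, walkV step (spell sw (T[i.1]).2) b = (T[i.1]).1 := fun i =>
      Nat.eq_of_beq_eq_true (hT _ (List.getElem_mem i.2)).2
    let f : Fin T.length → ↥(orbit (fixV code S fixed) (code b)) := fun i =>
      ⟨((spell sw (T[i.1]).2).map gs).prod • code b, ⟨⟨_, mem_fixV.2 ⟨hS _ fun a ha =>
        Nat.le_of_ble_eq_true ((hT _ (List.getElem_mem i.2)).1.1 a ha), fun c hc => by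
          rw [(hw i c (hf c hc)).2, Nat.eq_of_beq_eq_true ((hT _ (List.getElem_mem i.2)).1.2 c hc)]⟩⟩, rfl⟩⟩
    have hinj : Function.Injective f := fun i j e => by
      have e' : ((spell sw (T[i.1]).2).map gs).prod • code b = ((spell sw (T[j.1]).2).map gs).prod • code b :=
        congrArg Subtype.val e
      rw [(hw i b hb).2, (hw j b hb).2] at e'
      have h' := K.inj _ (hw i b hb).1 _ (hw j b hb).1 e'
      rw [hval, hval] at h'
      have hnd : (T.map Prod.fst).Nodup := (increasing_spec hasc).imp ne_of_lt
      exact Fin.ext ((hnd.getElem_inj_iff (hi := by simpa using i.2) (hj := by simpa using j.2)).1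
        (by simpa using h'))
    haveI : Finite ↥(orbit (fixV code S fixed) (code b)) := (Set.finite_range _).to_subtype
    have := Nat.card_le_card_of_injective f hinj
    rwa [Nat.card_fin, Nat.card_coe_set_eq] at this

/-- Everything from the checks: the generators of the Sylow subgroup and the hypotheses of the bound. -/
theorem vec_facts [Finite G] (K : Coded code N gs len step U) (C : Cert) [hp : Fact C.p.Prime]
    (sw gw : List (List ℕ)) (T : List (ℕ × List (ℕ × List ℕ))) (hfac : (Nat.card G).factorization C.p = C.m)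
    (hid : identVec step len U C sw gw = true) (hsub : subVecOK N step sw [] T = true)
    (hT : C.p ^ C.m ≤ (T.map fun e => e.2.length).prod) (hshape : C.shapeOK = true) :
    ∃ γ conj : ℕ → G,
      (∀ r, r < C.rules.length → wv γ (C.rules.getD r ([], [])).1 = wv γ (C.rules.getD r ([], [])).2) ∧
      (∀ f, f < C.maps.length → ∀ i, i < (C.pairs f).length →
        conj f * wv γ ((C.pairs f).getD i ([], [])).1 * (conj f)⁻¹ = wv γ ((C.pairs f).getD i ([], [])).2) ∧
      C.p ^ C.m ≤ Nat.card (Subgroup.closure (γ '' {i | i < C.m}) : Subgroup G) ∧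
      ¬ C.p ∣ (Subgroup.closure (γ '' {i | i < C.m}) : Subgroup G).index := by
  simp only [identVec, Bool.and_eq_true, List.all_eq_true, List.mem_range] at hid
  obtain ⟨⟨⟨hswl, hswlt⟩, hr⟩, hm⟩ := hid
  have hlen : sw.length = C.m := Nat.eq_of_beq_eq_true hswl
  have hlt : ∀ s ∈ sw, ∀ x ∈ s, x < len := fun s hs x hx => Nat.le_of_ble_eq_true (hswlt s hs x hx)
  refine ⟨fun i => ((sw.getD i []).map gs).prod, fun f => ((gw.getD f []).map gs).prod, ?_⟩
  set γ : ℕ → G := fun i => ((sw.getD i []).map gs).prod
  have hrules : ∀ r, r < C.rules.length → wv γ (C.rules.getD r ([], [])).1 = wv γ (C.rules.getD r ([], [])).2 :=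
    fun r hr0 => by
      rw [← prod_spell, ← prod_spell]
      exact eq_of_sameV K (hr _ (by rw [List.getD_eq_getElem _ _ hr0]; exact List.getElem_mem hr0))
  have hcard : C.p ^ C.m ≤ Nat.card (Subgroup.closure (γ '' {i | i < C.m}) : Subgroup G) := by
    set S := Subgroup.closure (γ '' {i | i < C.m})
    have hS : ∀ v : List ℕ, (∀ i ∈ v, i < sw.length) → ((spell sw v).map gs).prod ∈ S := fun v hv => by
      rw [prod_spell]
      refine list_prod_mem fun g hg => ?_
      obtain ⟨i, hi, rfl⟩ := List.mem_map.1 hg
      exact Subgroup.subset_closure ⟨i, hlen ▸ hv i hi, rfl⟩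
    exact hT.trans (subVec_count K hlt S hS T [] (by simp) hsub)
  refine ⟨hrules, fun f hf i hi => ?_, hcard, ?_⟩
  · have e := eq_of_sameV K (hm f hf _ (List.getElem_mem hi))
    rw [List.map_append, List.map_append, List.prod_append, List.prod_append, prod_spell, prod_spell] at e
    rw [List.getD_eq_getElem _ _ hi, mul_inv_eq_iff_eq_mul]
    exact e
  · simp only [Cert.shapeOK, Bool.and_eq_true, List.all_eq_true, List.mem_range, Bool.or_eq_true,
      Bool.not_eq_true', beq_iff_eq] at hshape
    have hup := (segment_bound C hp.out.pos γ ⊥ (fun b hb d => by rw [Subgroup.mem_bot.1 hb, one_mul, mul_one])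
      hshape.2 fun r hr0 => ⟨1, one_mem _, by rw [mul_one]; exact hrules r hr0⟩).1
    rw [bot_sup_eq, Subgroup.card_bot, mul_one] at hup
    intro hd
    have hmul := (Subgroup.closure (γ '' {i | i < C.m})).card_mul_index
    rw [le_antisymm hup hcard] at hmul
    have hd' : C.p ^ (C.m + 1) ∣ Nat.card G := by rw [← hmul, pow_succ]; exact mul_dvd_mul_left _ hd
    have := (Nat.Prime.pow_dvd_iff_le_factorization hp.out Nat.card_pos.ne').1 hd'
    omega

end CfsgLib.Lie.MultExc
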